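import Cfsg.Agent.H952.F4.Jord

/-!
# S5931: the cubic identity on the trace-zero part of the 27-dimensional module (helper1)

* `st x y = x × y + (1/3) T(x,y) 1` : the product of the trace-zero part;
* `st_cube` (I1) : `x * (x * x) = (2/3) T(x,x) x`;
* `lin3` : its linearisation; `four` (E4) : the quartic identity;
* `no_split` (ORTH).
-/

set_option autoImplicit false

namespace Cfsg.Agent.R2.H1.F4

open Cfsg Cfsg.Lie Module Cfsg.Agent.H952.F4 Cfsg.Agent.H952.F4.Jord
open Cfsg.Agent.ChevalleyStructure.E6Min.Tables Cfsg.Agent.ChevalleyStructure.E6Min.Basic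

universe u

variable {k : Type u} [Field k]

/-- the product of the trace-zero part -/
noncomputable def st (x y : I27 → k) : I27 → k := cr x y + (tf x y / 3) • u0 k

theorem st_comm (x y : I27 → k) : st x y = st y x := by
  unfold st; rw [cr_comm, tf_comm]

theorem st_add_left (x y z : I27 → k) : st (x + y) z = st x z + st y z := by
  unfold st; rw [cr_add_left, tf_add_left, add_div, add_smul]; abel

theorem st_smul_left (c : k) (x y : I27 → k) : st (c • x) y = c • st x y := by
  unfold st; rw [cr_smul_left, tf_smul_left, smul_add, smul_smul, mul_div_assoc]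

theorem st_add_right (x y z : I27 → k) : st x (y + z) = st x y + st x z := by
  rw [st_comm, st_add_left, st_comm y, st_comm z]

theorem st_smul_right (c : k) (x y : I27 → k) : st x (c • y) = c • st x y := by
  rw [st_comm, st_smul_left, st_comm]

theorem tr1_st (h3 : (3 : k) ≠ 0) {x y : I27 → k} (hx : tr1 x = 0) : tr1 (st x y) = 0 := by
  unfold st
  rw [tr1_add, tr1_smul, tr1_cr, tr1_u0, hx]
  field_simp
  ring

theorem tf_u0_right (x : I27 → k) : tf x (u0 k) = tr1 x := by rw [tf_comm, tf_u0]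

/-- the trilinear form -/
theorem tf_st {x y z : I27 → k} (hz : tr1 z = 0) : tf (st x y) z = tf (cr x y) z := by
  unfold st
  rw [tf_add_left, tf_smul_left, tf_u0, hz, mul_zero, add_zero]

theorem tf_st_rot {x y z : I27 → k} (hx : tr1 x = 0) (hz : tr1 z = 0) : tf (st x y) z = tf x (st y z) := by
  rw [tf_st hz, tf_cr, tf_comm x (st y z), tf_st hx, tf_comm]

theorem cr_sh_self {x : I27 → k} (h2 : (2 : k) ≠ 0) (hx : tr1 x = 0) :
    cr x (sh x) = (tf x x / 2) • x - cubicT x • u0 k := by
  have h1 := cr_sh_cr x (u0 k)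
  have h2' : cr x (u0 k) = -x := by rw [cr_comm, cr_u0, hx, zero_smul, zero_sub]
  have h3 : tf (sh x) (u0 k) = -(tf x x / 2) := by
    rw [tf_u0_right]
    have := tr1_sh x
    rw [hx] at this
    field_simp
    linear_combination this
  rw [h2', h3] at h1
  have h4 : cr (sh x) (-x) = - cr x (sh x) := by
    rw [← neg_one_smul k x, cr_smul_right, neg_one_smul, cr_comm]
  rw [h4] at h1
  have h5 : cr x (sh x) = -(cubicT x • u0 k + -(tf x x / 2) • x) := by rw [← h1, neg_neg]
  rw [h5]
  module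

/-- **(I1)** -/
theorem st_cube (h2 : (2 : k) ≠ 0) (h3 : (3 : k) ≠ 0) {x : I27 → k} (hx : tr1 x = 0) :
    st x (st x x) = (2 / 3 * tf x x) • x := by
  have e1 : st x x = (2 : k) • sh x + (tf x x / 3) • u0 k := by
    unfold st; rw [cr_self]
  have e2 : cr x (u0 k) = -x := by rw [cr_comm, cr_u0, hx, zero_smul, zero_sub]
  rw [e1]
  unfold st
  rw [cr_add_right, cr_smul_right, cr_smul_right, cr_sh_self h2 hx, e2, tf_add_right, tf_smul_right, tf_smul_right,
    tf_u0_right, hx, tf_comm x (sh x), tf_sh_self]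
  have e3 : (2 : k) • ((tf x x / 2) • x - cubicT x • u0 k) = tf x x • x - (2 * cubicT x) • u0 k := by
    rw [smul_sub, smul_smul, smul_smul, mul_div_cancel₀ _ h2]
  rw [e3]
  have e4 : (2 * (3 * cubicT x) + tf x x / 3 * 0) / 3 = 2 * cubicT x := by field_simp; ring
  rw [e4]
  have e5 : (2 / 3 * tf x x) = tf x x - tf x x / 3 := by field_simp; ring
  rw [e5]
  module

/-- the linearisation of (I1) -/
theorem lin3 (h2 : (2 : k) ≠ 0) (h3 : (3 : k) ≠ 0) {x y z : I27 → k} (hx : tr1 x = 0) (hy : tr1 y = 0)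
    (hz : tr1 z = 0) :
    st x (st y z) + st y (st x z) + st z (st x y) =
      (2 / 3 : k) • (tf y z • x + tf x z • y + tf x y • z) := by
  have a1 := st_cube h2 h3 hx
  have a2 := st_cube h2 h3 hy
  have a3 := st_cube h2 h3 hz
  have b1 := st_cube h2 h3 (x := x + y) (by rw [tr1_add, hx, hy, add_zero])
  have b2 := st_cube h2 h3 (x := x + z) (by rw [tr1_add, hx, hz, add_zero])
  have b3 := st_cube h2 h3 (x := y + z) (by rw [tr1_add, hy, hz, add_zero])
  have c1 := st_cube h2 h3 (x := x + y + z) (by rw [tr1_add, tr1_add, hx, hy, hz, add_zero, add_zero])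
  simp only [st_add_left, st_add_right, tf_add_left, tf_add_right] at b1 b2 b3 c1
  have exy := st_comm y x
  have exz := st_comm z x
  have eyz := st_comm z y
  rw [exy] at b1 c1
  rw [exz] at b2 c1
  rw [eyz] at b3 c1
  rw [tf_comm y x] at b1 c1
  rw [tf_comm z x] at b2 c1
  rw [tf_comm z y] at b3 c1
  have h4 : (2 : k) • (st x (st y z) + st y (st x z) + st z (st x y)) =
      (2 : k) • ((2 / 3 : k) • (tf y z • x + tf x z • y + tf x y • z)) := by
    linear_combination (norm := module) (1 : k) • c1 - (1 : k) • b1 - (1 : k) • b2 - (1 : k) • b3 + (1 : k) • a1 + (1 : k) • a2 + (1 : k) • a3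
  have h5 := congrArg (fun v => (2 : k)⁻¹ • v) h4
  simpa only [smul_smul, ← mul_assoc, inv_mul_cancel₀ h2, one_mul, one_smul] using h5

/-- **(E4)** -/
theorem four (h2 : (2 : k) ≠ 0) (h3 : (3 : k) ≠ 0) {x y z w : I27 → k} (hx : tr1 x = 0) (hy : tr1 y = 0)
    (hz : tr1 z = 0) (hw : tr1 w = 0) :
    tf (st x y) (st z w) + tf (st x z) (st y w) + tf (st x w) (st y z) =
      2 / 3 * (tf x y * tf z w + tf x z * tf y w + tf x w * tf y z) := by
  have h := congrArg (fun v => tf v w) (lin3 h2 h3 hx hy hz)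
  simp only [tf_add_left, tf_smul_left] at h
  have e1 : tf (st x (st y z)) w = tf (st x w) (st y z) := by
    rw [st_comm, tf_st_rot (tr1_st h3 hy) hw, tf_comm]
  have e2 : tf (st y (st x z)) w = tf (st x z) (st y w) := by
    rw [st_comm, tf_st_rot (tr1_st h3 hx) hw]
  have e3 : tf (st z (st x y)) w = tf (st x y) (st z w) := by
    rw [st_comm, tf_st_rot (tr1_st h3 hx) hw]
  rw [e1, e2, e3] at h
  linear_combination h

/-- **(ORTH)** two orthogonal vectors with `x * z = 0` and orthogonal squares cannot both be non-isotropic -/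
theorem no_split (h2 : (2 : k) ≠ 0) (h3 : (3 : k) ≠ 0) {x z : I27 → k} (hx : tr1 x = 0) (hz : tr1 z = 0)
    (h0 : st x z = 0) (hxz : tf x z = 0) (hsq : tf (st x x) (st z z) = 0) : tf x x * tf z z = 0 := by
  have h := four h2 h3 hx hx hz hz
  rw [h0, hxz, hsq] at h
  have h1 : tf (0 : I27 → k) 0 = 0 := by
    have := tf_smul_left (0 : k) (0 : I27 → k) 0
    rwa [zero_smul, zero_mul] at this
  rw [h1] at h
  have h4 : (2 / 3 : k) ≠ 0 := div_ne_zero h2 h3
  have h5 : (2 / 3 : k) * (tf x x * tf z z) = 0 := by linear_combination -h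
  exact (mul_eq_zero.1 h5).resolve_left h4

/-- a vector with `x * x = 0` is isotropic -/
theorem iso_of_sq (h2 : (2 : k) ≠ 0) (h3 : (3 : k) ≠ 0) {x : I27 → k} (hx : tr1 x = 0) (h0 : st x x = 0) :
    tf x x = 0 := by
  have h := st_cube h2 h3 hx
  have h1 : st x 0 = 0 := by
    have := st_smul_right (0 : k) x (0 : I27 → k)
    rwa [zero_smul, zero_smul] at this
  rw [h0, h1] at h
  by_contra hne
  have h4 : (2 / 3 * tf x x : k) ≠ 0 := mul_ne_zero (div_ne_zero h2 h3) hne
  have h5 : x = 0 := (smul_eq_zero.1 h.symm).resolve_left h4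
  apply hne
  rw [h5]
  have := tf_smul_left (0 : k) (0 : I27 → k) 0
  rwa [zero_smul, zero_mul] at this

/-- `x * x = 0` means that `x` is white -/
theorem sh_of_sq (h2 : (2 : k) ≠ 0) (h3 : (3 : k) ≠ 0) {x : I27 → k} (hx : tr1 x = 0) (h0 : st x x = 0) :
    sh x = 0 := by
  have h1 := iso_of_sq h2 h3 hx h0
  unfold st at h0
  rw [h1, zero_div, zero_smul, add_zero, cr_self] at h0
  exact (smul_eq_zero.1 h0).resolve_left h2

/-- `cr` and `sh` in terms of `st` -/
theorem sh_eq (h2 : (2 : k) ≠ 0) (x : I27 → k) : sh x = (1 / 2 : k) • (st x x - (tf x x / 3) • u0 k) := by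
  unfold st
  rw [cr_self, add_sub_cancel_right, smul_smul, one_div, inv_mul_cancel₀ h2, one_smul]

end Cfsg.Agent.R2.H1.F4
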