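import Cfsg.Agent.R2.F4N.NR
import Cfsg.Agent.R2.F4M.Eig
import Cfsg.Agent.R2.F4M.Rk
import Cfsg.Agent.R2.F4L.Act
import Cfsg.Agent.R2.H1.F4.E4

/-!
# S5931: no gradings (helper1)

* `Fr f s` : `s` is a field endomorphism of `k` with fixed field `F`; `exists_fr`;
* `no_grade` : there is no `Z/2`-grading of the Albert algebra over `k` stable under `L` and under `s`.
-/

set_option autoImplicit false
set_option linter.unusedSectionVars false

namespace Cfsg.Agent.R2.H1.F4

open Cfsg Cfsg.Lie Module Matrix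
open Cfsg.Agent.ChevalleyStructure.E6Min.Tables Cfsg.Agent.ChevalleyStructure.E6Min.Basic
open Cfsg.Agent.H952.F4 Cfsg.Agent.H952.F4.Jord
open Cfsg.Agent.H952.F4.FixV (W0 mem_W0 finrank_W0 u0_ne_zero trL trL_apply trL_ne_zero tr1_sub tf_sub_right)
open Cfsg.Agent.R2.F4M (Jr Rk Cfg)
open Cfsg.Agent.R2.H9.E6 (pq pq_surjective)
open Cfsg.Agent.R2.F4L (Act)

universe u v w

section fr

variable {F : Type u} [Field F] {k : Type v} [Field k]

/-- `s` is an endomorphism of `k` with fixed field `F` -/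
structure Fr (f : F →+* k) (s : k →+* k) : Prop where
  fix : ∀ a, s (f a) = f a
  ex : ∀ c, s c = c → ∃ a, f a = c

theorem exists_fr [Fintype F] (f : F →+* k) : ∃ s : k →+* k, Fr f s ∧ ∀ c, s c = c ^ Fintype.card F := by
  obtain ⟨p, hp⟩ := CharP.exists F
  obtain ⟨n, hpp, hn⟩ := FiniteField.card F p
  have hfp : Fact p.Prime := ⟨hpp⟩
  have hck : CharP k p := (f.charP_iff f.injective p).1 hp
  refine ⟨iterateFrobenius k p n, ⟨fun a => ?_, fun c hc => ?_⟩, fun c => ?_⟩
  · rw [iterateFrobenius_def, ← hn, ← map_pow, FiniteField.pow_card]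
  · rw [iterateFrobenius_def, ← hn] at hc
    classical
    have h1 := FiniteField.roots_X_pow_card_sub_X F
    have h2 : (Polynomial.X ^ Fintype.card F - Polynomial.X : Polynomial F) =
        (Multiset.map (fun a => Polynomial.X - Polynomial.C a) (Finset.univ.val : Multiset F)).prod := by
      rw [← h1]
      have h3 : (Polynomial.X ^ Fintype.card F - Polynomial.X : Polynomial F).Monic :=
        Polynomial.monic_X_pow_sub (by
          rw [Polynomial.degree_X]
          exact_mod_cast Fintype.one_lt_card)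
      refine (Polynomial.prod_multiset_X_sub_C_of_monic_of_roots_card_eq h3 ?_).symm
      rw [h1, FiniteField.X_pow_card_sub_X_natDegree_eq F Fintype.one_lt_card]
      rfl
    have h4 := congrArg (Polynomial.eval₂ f c) h2
    rw [Polynomial.eval₂_sub, Polynomial.eval₂_pow, Polynomial.eval₂_X, hc, sub_self] at h4
    have h5 : Polynomial.eval₂ f c (Multiset.map (fun a => Polynomial.X - Polynomial.C a)
        (Finset.univ.val : Multiset F)).prod = ∏ a : F, (c - f a) := by
      rw [← Polynomial.coe_eval₂RingHom, map_multiset_prod, Multiset.map_map]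
      simp only [Finset.prod]
      congr 1
      refine Multiset.map_congr rfl fun a _ => ?_
      simp
    rw [h5] at h4
    obtain ⟨a, _, ha⟩ := Finset.prod_eq_zero_iff.1 h4.symm
    exact ⟨a, (sub_eq_zero.1 ha).symm⟩
  · rw [iterateFrobenius_def, ← hn]

end fr

section sv

variable {k : Type v} [Field k] (s : k →+* k)

/-- the semilinear map -/
def sv (x : I27 → k) : I27 → k := fun i => s (x i)

theorem sv_add (x y : I27 → k) : sv s (x + y) = sv s x + sv s y := funext fun _ => map_add s _ _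

theorem sv_smul (c : k) (x : I27 → k) : sv s (c • x) = s c • sv s x := funext fun _ => map_mul s _ _

theorem sv_u0 : sv s (u0 k) = u0 k := F4P.u0_map s

theorem sv_tr (x : I27 → k) : tr1 (sv s x) = s (tr1 x) := F4P.tr1_map s x

theorem sv_cr (x y : I27 → k) : cr (sv s x) (sv s y) = sv s (cr x y) := F4M.sg_cr s x y

theorem sv_tf (x y : I27 → k) : tf (sv s x) (sv s y) = s (tf x y) := by
  have h1 := tr1_cr x y
  have h2 := tr1_cr (sv s x) (sv s y)
  rw [sv_cr, sv_tr, sv_tr, sv_tr, h1, map_sub, map_mul] at h2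
  linear_combination h2

theorem sv_st (x y : I27 → k) : st (sv s x) (sv s y) = sv s (st x y) := by
  unfold st
  rw [sv_add, sv_smul, sv_cr, sv_tf, sv_u0, map_div₀, map_ofNat]

end sv

/-- the decomposition of the Albert algebra -/
theorem compl_of {k : Type v} [Field k] (h3 : (3 : k) ≠ 0) {P Q : Submodule k (I27 → k)}
    (hP : ∀ x ∈ P, tr1 x = 0) (hQ : ∀ x ∈ Q, tr1 x = 0)
    (hPQ : ∀ v : I27 → k, tr1 v = 0 → ∃ x ∈ P, ∃ y ∈ Q, v = x + y) (ho : ∀ x ∈ P, ∀ y ∈ Q, tf x y = 0) :
    IsCompl Q (P ⊔ Submodule.span k {u0 k}) := by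
  constructor
  · rw [Submodule.disjoint_def]
    intro v hv hv'
    obtain ⟨x, hx, y, hy, rfl⟩ := Submodule.mem_sup.1 hv'
    obtain ⟨c, rfl⟩ := Submodule.mem_span_singleton.1 hy
    have h1 := hQ _ hv
    rw [tr1_add, hP x hx, tr1_smul, tr1_u0, zero_add] at h1
    have hc : c = 0 := (mul_eq_zero.1 h1).resolve_right h3
    subst hc
    rw [zero_smul, add_zero] at hv ⊢
    refine tf_nondeg fun z => ?_
    have h2 : tr1 (z - (tr1 z / 3) • u0 k) = 0 := by
      rw [tr1_sub, tr1_smul, tr1_u0]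
      field_simp
      ring
    obtain ⟨x', hx', y', hy', e⟩ := hPQ _ h2
    have h4 : z = x' + y' + (tr1 z / 3) • u0 k := by rw [← e]; abel
    rw [h4, tf_add_right, tf_add_right, tf_smul_right, tf_u0_right, hP x hx, ho x hx y' hy', tf_comm, ho x' hx' x hv]
    simp
  · rw [codisjoint_iff, eq_top_iff]
    intro z _
    have h2 : tr1 (z - (tr1 z / 3) • u0 k) = 0 := by
      rw [tr1_sub, tr1_smul, tr1_u0]
      field_simp
      ring
    obtain ⟨x', hx', y', hy', e⟩ := hPQ _ h2
    have h4 : z = y' + (x' + (tr1 z / 3) • u0 k) := by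
      rw [← add_assoc, add_comm y', ← e]; abel
    rw [h4]
    exact Submodule.add_mem_sup hy' (Submodule.add_mem_sup hx' (Submodule.smul_mem _ _ (Submodule.mem_span_singleton_self _)))

section inv

variable {k : Type v} [Field k] {P Q : Submodule k (I27 → k)}

/-- the involution -/
noncomputable def thI (hc : IsCompl Q (P ⊔ Submodule.span k {u0 k})) : (I27 → k) →ₗ[k] (I27 → k) :=
  LinearMap.id - (2 : k) • Q.projection _ hc

variable (hc : IsCompl Q (P ⊔ Submodule.span k {u0 k}))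

theorem thI_left {x : I27 → k} (hx : x ∈ P) : thI hc x = x := by
  unfold thI
  rw [LinearMap.sub_apply, LinearMap.smul_apply, (Submodule.projection_apply_eq_zero_iff hc).2 (Submodule.mem_sup_left hx),
    smul_zero, sub_zero, LinearMap.id_apply]

theorem thI_u0 : thI hc (u0 k) = u0 k := by
  unfold thI
  rw [LinearMap.sub_apply, LinearMap.smul_apply, (Submodule.projection_apply_eq_zero_iff hc).2
    (Submodule.mem_sup_right (Submodule.mem_span_singleton_self _)), smul_zero, sub_zero, LinearMap.id_apply]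

theorem thI_right {x : I27 → k} (hx : x ∈ Q) : thI hc x = -x := by
  unfold thI
  rw [LinearMap.sub_apply, LinearMap.smul_apply, Submodule.projection_apply_of_mem_left hc hx, LinearMap.id_apply, two_smul]
  abel

include hc in
theorem decomp (v : I27 → k) : ∃ x ∈ P, ∃ y ∈ Q, ∃ c : k, v = x + y + c • u0 k := by
  have h1 : v ∈ Q ⊔ (P ⊔ Submodule.span k {u0 k}) := by
    rw [codisjoint_iff.1 hc.codisjoint]; trivial
  obtain ⟨y, hy, z, hz, rfl⟩ := Submodule.mem_sup.1 h1
  obtain ⟨x, hx, w, hw, rfl⟩ := Submodule.mem_sup.1 hz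
  obtain ⟨c, rfl⟩ := Submodule.mem_span_singleton.1 hw
  exact ⟨x, hx, y, hy, c, by abel⟩

theorem thI_dec {x y : I27 → k} (hx : x ∈ P) (hy : y ∈ Q) (c : k) : thI hc (x + y + c • u0 k) = x - y + c • u0 k := by
  rw [map_add, map_add, map_smul, thI_left hc hx, thI_right hc hy, thI_u0]
  abel

theorem thI_sq (v : I27 → k) : thI hc (thI hc v) = v := by
  obtain ⟨x, hx, y, hy, c, rfl⟩ := decomp hc v
  rw [thI_dec hc hx hy, sub_eq_add_neg, thI_dec hc hx (Q.neg_mem hy), sub_neg_eq_add]

theorem thI_comm {g : (I27 → k) → (I27 → k)} (ga : ∀ x y, g (x + y) = g x + g y) (gu : ∀ c : k, ∃ d : k, g (c • u0 k) = d • u0 k)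
    (gP : ∀ x ∈ P, g x ∈ P) (gQ : ∀ x ∈ Q, g x ∈ Q) (v : I27 → k) : thI hc (g v) = g (thI hc v) := by
  obtain ⟨x, hx, y, hy, c, rfl⟩ := decomp hc v
  obtain ⟨d, hd⟩ := gu c
  have g0 : g 0 = 0 := by
    have := ga 0 0
    rw [add_zero] at this
    exact left_eq_add.1 this
  have gn : g (-y) = - g y := by
    have := ga y (-y)
    rw [add_neg_cancel, g0] at this
    exact (neg_eq_of_add_eq_zero_right this.symm).symm
  rw [thI_dec hc hx hy, ga, ga, hd, thI_dec hc (gP x hx) (gQ y hy), ga, hd, sub_eq_add_neg x y, ga, gn]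
  abel

include hc in
theorem mem_of_orth (h3 : (3 : k) ≠ 0) (hP : ∀ x ∈ P, tr1 x = 0) (hQ : ∀ x ∈ Q, tr1 x = 0)
    (ho : ∀ x ∈ P, ∀ y ∈ Q, tf x y = 0) {v : I27 → k} (hv : tr1 v = 0) :
    ((∀ y ∈ Q, tf v y = 0) → v ∈ P) ∧ ((∀ x ∈ P, tf v x = 0) → v ∈ Q) := by
  obtain ⟨x, hx, y, hy, c, rfl⟩ := decomp hc v
  rw [tr1_add, tr1_add, hP x hx, hQ y hy, tr1_smul, tr1_u0, zero_add, zero_add] at hv
  have hc0 : c = 0 := (mul_eq_zero.1 hv).resolve_right h3
  subst hc0
  rw [zero_smul, add_zero]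
  constructor
  · intro h
    have hy0 : y = 0 := by
      refine tf_nondeg fun z => ?_
      obtain ⟨x', hx', y', hy', c', rfl⟩ := decomp hc z
      rw [tf_add_right, tf_add_right, tf_smul_right, tf_u0_right, hQ y hy, tf_comm y x', ho x' hx' y hy]
      have := h y' hy'
      rw [tf_add_left, ho x hx y' hy', zero_add] at this
      rw [this]
      simp
    rw [hy0, add_zero]
    exact hx
  · intro h
    have hx0 : x = 0 := by
      refine tf_nondeg fun z => ?_
      obtain ⟨x', hx', y', hy', c', rfl⟩ := decomp hc z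
      rw [tf_add_right, tf_add_right, tf_smul_right, tf_u0_right, hP x hx, ho x hx y' hy']
      have := h x' hx'
      rw [tf_add_left, tf_comm y x', ho x' hx' y hy, add_zero] at this
      rw [this]
      simp
    rw [hx0, zero_add]
    exact hy

theorem thI_sh (h2 : (2 : k) ≠ 0) (h3 : (3 : k) ≠ 0) (hP : ∀ x ∈ P, tr1 x = 0) (hQ : ∀ x ∈ Q, tr1 x = 0)
    (ho : ∀ x ∈ P, ∀ y ∈ Q, tf x y = 0) (n1 : ∀ x ∈ P, ∀ y ∈ P, ∀ z ∈ Q, tf (st x y) z = 0)
    (n2 : ∀ x ∈ Q, ∀ y ∈ Q, ∀ z ∈ Q, tf (st x y) z = 0) (v : I27 → k) : sh (thI hc v) = thI hc (sh v) := by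
  obtain ⟨x, hx, y, hy, c, rfl⟩ := decomp hc v
  rw [thI_dec hc hx hy]
  have tx := hP x hx
  have ty := hQ y hy
  have hxx : st x x ∈ P := (mem_of_orth hc h3 hP hQ ho (tr1_st h3 tx)).1 fun z hz => n1 x hx x hx z hz
  have hyy : st y y ∈ P := (mem_of_orth hc h3 hP hQ ho (tr1_st h3 ty)).1 fun z hz => n2 y hy y hy z hz
  have hxy : st x y ∈ Q := (mem_of_orth hc h3 hP hQ ho (tr1_st h3 tx)).2 fun z hz => by
    rw [st_comm, tf_st_rot ty (hP z hz), tf_comm, n1 x hx z hz y hy]
  have e1 : ∀ y : I27 → k, tr1 y = 0 → tf x y = 0 → sh (x + y + c • u0 k) =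
      (1 / 2 : k) • (st x x + st y y) + (st x y - c • y) + (-c) • x +
        (c ^ 2 - 1 / 2 * ((tf x x + tf y y) / 3)) • u0 k := by
    intro y hy hxy
    rw [sh_add, sh_smul, sh_u0, cr_smul_right, cr_comm, cr_u0, tr1_add, tx, hy, add_zero, zero_smul, zero_sub,
      sh_eq h2 (x + y), st_add_left, st_add_right, st_add_right, st_comm y x, tf_add_left, tf_add_right, tf_add_right,
      hxy, tf_comm y x, hxy]
    have h4 : (1 / 2 : k) • ((2 : k) • st x y) = st x y := by
      rw [smul_smul, one_div, inv_mul_cancel₀ h2, one_smul]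
    have h5 : (1 / 2 : k) • (st x x + st x y + (st x y + st y y) - ((tf x x + 0 + (0 + tf y y)) / 3) • u0 k) =
        (1 / 2 : k) • (st x x + st y y) + (1 / 2 : k) • ((2 : k) • st x y) -
          (1 / 2 : k) • ((tf x x + tf y y) / 3) • u0 k := by
      rw [add_zero, zero_add]
      module
    rw [h5, h4]
    module
  have e2 : sh (x - y + c • u0 k) = sh (x + (-y) + c • u0 k) := by rw [sub_eq_add_neg]
  have ny : -y = (-1 : k) • y := by rw [neg_one_smul]
  rw [e2, e1 (-y) (by rw [ny, tr1_smul, ty, mul_zero]) (by rw [ny, tf_smul_right, ho x hx y hy, mul_zero]), e1 y ty (ho x hx y hy)]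
  have hA : (1 / 2 : k) • (st x x + st y y) + (st x y - c • y) + (-c) • x +
        (c ^ 2 - 1 / 2 * ((tf x x + tf y y) / 3)) • u0 k =
      ((1 / 2 : k) • (st x x + st y y) + (-c) • x) + (st x y - c • y) +
        (c ^ 2 - 1 / 2 * ((tf x x + tf y y) / 3)) • u0 k := by abel
  rw [hA, thI_dec hc (P.add_mem (P.smul_mem _ (P.add_mem hxx hyy)) (P.smul_mem _ hx)) (Q.sub_mem hxy (Q.smul_mem _ hy))]
  have h6 : st (-y) (-y) = st y y := by rw [ny, st_smul_left, st_smul_right, smul_smul]; norm_num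
  have h7 : st x (-y) = - st x y := by rw [ny, st_smul_right, neg_one_smul]
  have h8 : tf (-y) (-y) = tf y y := by rw [ny, tf_smul_left, tf_smul_right]; ring
  rw [h6, h7, h8]
  module

end inv

section main

variable {F : Type u} [Field F] [Fintype F] {K : Type w} [Field K] [Fintype K] {p a b : ℕ}
  {H : Subgroup ↥(chevF4.group F)} {φ : ProjectiveSpecialLinearGroup (Fin 2) K →* ↥(chevF4.group F)}
variable {k : Type u} [Field k] {f : F →+* k} {s : k →+* k}

/-- a linear involution commuting with everything comes from `F` -/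
theorem rational_eq_one (h : Cfg p a b H φ) (fr : Fr f s) {g : (I27 → k) →ₗ[k] (I27 → k)} (g2 : ∀ x, g (g x) = x)
    (gs : ∀ x, g (sv s x) = sv s (g x)) (gsh : ∀ x, sh (g x) = g (sh x)) (gu : g (u0 k) = u0 k)
    (gL : ∀ a x, g (Rk f φ a x) = Rk f φ a (g x)) (x : I27 → k) : g x = x := by
  classical
  have hsing : ∀ i : I27, sv s (Pi.single i (1 : k)) = Pi.single i (1 : k) := by
    intro i
    funext j
    unfold sv
    rcases eq_or_ne j i with rfl | hj
    · rw [Pi.single_eq_same, map_one]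
    · rw [Pi.single_eq_of_ne hj, map_zero]
  have hent : ∀ i j : I27, ∃ a : F, f a = g (Pi.single i (1 : k)) j := by
    intro i j
    refine fr.ex _ ?_
    have h1 := congrFun (gs (Pi.single i (1 : k))) j
    rw [hsing] at h1
    exact h1.symm
  choose m hm using hent
  have hdec : ∀ y : I27 → k, g y = fun j => ∑ i, y i * g (Pi.single i (1 : k)) j := by
    intro y
    have h1 : y = ∑ i, y i • (Pi.single i (1 : k) : I27 → k) := by
      funext j
      rw [Finset.sum_apply, Finset.sum_eq_single j]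
      · simp
      · intro i _ hi
        rw [Pi.smul_apply, Pi.single_eq_of_ne hi.symm, smul_zero]
      · intro h; exact absurd (Finset.mem_univ j) h
    conv_lhs => rw [h1]
    rw [map_sum]
    funext j
    rw [Finset.sum_apply]
    refine Finset.sum_congr rfl fun i _ => ?_
    rw [map_smul]
    rfl
  let g0 : (I27 → F) →ₗ[F] (I27 → F) :=
    { toFun := fun y j => ∑ i, y i * m i j
      map_add' := fun y z => by
        funext j
        simp only [Pi.add_apply, add_mul, Finset.sum_add_distrib]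
      map_smul' := fun c y => by
        funext j
        simp only [Pi.smul_apply, smul_eq_mul, Finset.mul_sum, RingHom.id_apply, mul_assoc] }
  have hg0 : ∀ y : I27 → F, (fun j => f (g0 y j)) = g (fun j => f (y j)) := by
    intro y
    rw [hdec]
    funext j
    change f (∑ i, y i * m i j) = _
    rw [map_sum]
    refine Finset.sum_congr rfl fun i _ => ?_
    rw [map_mul, hm]
  have hinj : ∀ y z : I27 → F, (fun j => f (y j)) = (fun j => f (z j)) → y = z := by
    intro y z h1
    funext j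
    exact f.injective (congrFun h1 j)
  have hinv : Function.Involutive g0 := by
    intro y
    refine hinj _ _ ?_
    rw [hg0, hg0, g2]
  have h1 := R2.F4N.aut1 h (g := LinearEquiv.ofInvolutive g0 hinv) (fun y => ?_) ?_ (fun a' y => ?_)
  · have h2 : ∀ i : I27, g (Pi.single i (1 : k)) = Pi.single i (1 : k) := by
      intro i
      have h3 : (fun j => f ((Pi.single i (1 : F) : I27 → F) j)) = (Pi.single i (1 : k) : I27 → k) := by
        funext j
        rcases eq_or_ne j i with rfl | hj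
        · rw [Pi.single_eq_same, Pi.single_eq_same, map_one]
        · rw [Pi.single_eq_of_ne hj, Pi.single_eq_of_ne hj, map_zero]
      have h4 := h1 (Pi.single i (1 : F))
      have h5 := hg0 (Pi.single i (1 : F))
      rw [h3] at h5
      rw [← h5]
      have h6 : g0 (Pi.single i (1 : F)) = Pi.single i (1 : F) := h4
      rw [h6, h3]
    rw [hdec x]
    funext j
    rw [Finset.sum_eq_single j]
    · rw [h2, Pi.single_eq_same, mul_one]
    · intro i _ hi
      rw [h2, Pi.single_eq_of_ne hi.symm, mul_zero]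
    · intro h; exact absurd (Finset.mem_univ j) h
  · refine hinj _ _ ?_
    change (fun i => f (sh (g0 y) i)) = fun i => f (g0 (sh y) i)
    rw [hg0, ← H163.E6.Act.sh_map, ← H163.E6.Act.sh_map, hg0, gsh]
  · refine hinj _ _ ?_
    change (fun i => f (g0 (u0 F) i)) = _
    rw [hg0, F4P.u0_map, gu]
  · obtain ⟨t, rfl⟩ := pq_surjective a'
    refine hinj _ _ ?_
    change (fun i => f (g0 (Jr F (φ (pq t)) y) i)) = fun i => f (Jr F (φ (pq t)) (g0 y) i)
    rw [hg0, ← F4M.Rk_map f φ t y, ← F4M.Rk_map f φ t, gL, hg0]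

/-- **no gradings** -/
theorem no_grade (h : Cfg p a b H φ) (fr : Fr f s) (h2 : (2 : k) ≠ 0) (h3 : (3 : k) ≠ 0)
    {P Q : Submodule k (I27 → k)} (hP : ∀ x ∈ P, tr1 x = 0) (hQ : ∀ x ∈ Q, tr1 x = 0)
    (hPQ : ∀ v : I27 → k, tr1 v = 0 → ∃ x ∈ P, ∃ y ∈ Q, v = x + y) (ho : ∀ x ∈ P, ∀ y ∈ Q, tf x y = 0)
    (n1 : ∀ x ∈ P, ∀ y ∈ P, ∀ z ∈ Q, tf (st x y) z = 0) (n2 : ∀ x ∈ Q, ∀ y ∈ Q, ∀ z ∈ Q, tf (st x y) z = 0)
    (LP : ∀ g, ∀ x ∈ P, Rk f φ g x ∈ P) (LQ : ∀ g, ∀ x ∈ Q, Rk f φ g x ∈ Q)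
    (sP : ∀ x ∈ P, sv s x ∈ P) (sQ : ∀ x ∈ Q, sv s x ∈ Q) : Q = ⊥ := by
  have hc := compl_of h3 hP hQ hPQ ho
  rw [eq_bot_iff]
  intro y hy
  have h1 := rational_eq_one (g := thI hc) h fr (thI_sq hc)
    (fun x => thI_comm hc (sv_add s) (fun c => ⟨s c, by rw [sv_smul, sv_u0]⟩) sP sQ x)
    (thI_sh hc h2 h3 hP hQ ho n1 n2) (thI_u0 hc)
    (fun g x => thI_comm hc (map_add _) (fun c => ⟨c, by rw [map_smul, F4M.Rk_u0]⟩) (LP g) (LQ g) x) y
  rw [thI_right hc hy] at h1
  have h4 : (2 : k) • y = 0 := by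
    rw [two_smul]
    nth_rewrite 1 [← h1]
    rw [neg_add_cancel]
  exact (Submodule.mem_bot k).2 ((smul_eq_zero.1 h4).resolve_left h2)

end main

end Cfsg.Agent.R2.H1.F4
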