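import Cfsg.Agent.R2.H1.F4.AlphaN
import Cfsg.Agent.R2.H1.F4.Grade

/-!
# S5931: type alpha does not occur (helper1)
-/

set_option autoImplicit false
set_option linter.unusedSectionVars false

namespace Cfsg.Agent.R2.H1.F4

open Cfsg Cfsg.Lie Module Cfsg.Agent.H952.F4 Cfsg.Agent.H952.F4.Jord
open Cfsg.Agent.ChevalleyStructure.E6Min.Tables Cfsg.Agent.ChevalleyStructure.E6Min.Basic
open Cfsg.Agent.R2.F4N (Str)
open Cfsg.Agent.R2.F4L (Act)
open Cfsg.Agent.H952.F4.FixV (W0 mem_W0 finrank_W0 trL tfL tfL_apply tr1_sub)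
open Cfsg.Agent.R2.F4M (Jr Rk R0 Cfg)
open Cfsg.Agent.R2.H9.E6 (pq pq_surjective)
open Cfsg.Agent.GpExc.Field (emb)
open Matrix Finset

universe u v w

section basic

variable {F : Type u} [Field F] {k : Type u} [Field k] {f : F →+* k} {s : k →+* k} {K : Type w} [Field K]
variable (φ : ProjectiveSpecialLinearGroup (Fin 2) K →* ↥(chevF4.group F))

theorem emb_emb_fr (fr : Fr f s) (g : ↥(chevF4.group F)) : emb hF4 s (emb hF4 f g) = emb hF4 f g := by
  apply Subtype.ext
  rw [Cfsg.Agent.GpExc.Field.coe_emb, Cfsg.Agent.GpExc.Field.coe_emb]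
  apply Units.ext
  ext j l
  exact fr.fix _

theorem Rk_sv (fr : Fr f s) (g : SpecialLinearGroup (Fin 2) K) (x : I27 → k) :
    Rk f φ g (sv s x) = sv s (Rk f φ g x) := by
  have h := F4M.Jr_map s (emb hF4 f (φ (pq g))) x
  rw [emb_emb_fr fr] at h
  exact h

theorem act_Rk : Act (Rk f φ) where
  sh := fun g x => (F4M.Rk_sh f φ g x).symm
  u0 := F4M.Rk_u0 f φ

end basic

section str

variable {k : Type u} [Field k] {K : Type w} [Field K] [Fintype K] {κ : K →+* k} {s : k →+* k}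
variable {ρ : Representation k (SpecialLinearGroup (Fin 2) K) (I27 → k)}

theorem sv_sum {ι : Type*} (A : Finset ι) (g : ι → (I27 → k)) : sv s (∑ i ∈ A, g i) = ∑ i ∈ A, sv s (g i) := by
  classical
  induction A using Finset.induction_on with
  | empty =>
    simp only [sum_empty]
    funext i
    exact map_zero s
  | insert a A ha ih => rw [sum_insert ha, sum_insert ha, sv_add, ih]

theorem str_sv (hρ : ∀ g v, ρ g (sv s v) = sv s (ρ g v)) {n : ℕ} {v : ℕ → (I27 → k)} (h : Str κ ρ n v) :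
    Str (s.comp κ) ρ n (fun a => sv s (v a)) where
  u := fun a ha t => by
    rw [hρ, h.u a ha, sv_sum]
    refine sum_congr rfl fun j _ => ?_
    rw [sv_smul, map_mul, map_natCast, map_pow]
    rfl
  h := fun a ha t => by
    rw [hρ, h.h a ha, sv_smul, map_mul, map_pow, map_pow, map_inv₀]
    rfl
  w := fun a ha => by
    rw [hρ, h.w a ha, sv_smul, map_pow, map_neg, map_one]

theorem sv_inj {x : I27 → k} (h : sv s x = 0) : x = 0 := by
  funext i
  exact (map_eq_zero s).1 (congrFun h i)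

theorem spa_ind {n : ℕ} {v : ℕ → (I27 → k)} {l : (I27 → k) →ₗ[k] k} (h : ∀ a ≤ n, l (v a) = 0) :
    ∀ w ∈ Submodule.span k {w | ∃ a, a ≤ n ∧ w = v a}, l w = 0 := by
  intro w hw
  have h1 : Submodule.span k {w | ∃ a, a ≤ n ∧ w = v a} ≤ LinearMap.ker l := by
    rw [Submodule.span_le]
    rintro w' ⟨a, ha, rfl⟩
    exact LinearMap.mem_ker.2 (h a ha)
  exact LinearMap.mem_ker.1 (h1 hw)

/-- the span of the strings with `T X` -/
def spn (x : Fin 4 → ℕ → (I27 → k)) (T : Fin 4 → Prop) : Submodule k (I27 → k) :=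
  Submodule.span k {w | ∃ X a, T X ∧ a ≤ sz X ∧ w = x X a}

theorem spn_mem {x : Fin 4 → ℕ → (I27 → k)} {T : Fin 4 → Prop} {X : Fin 4} (hX : T X) {a : ℕ} (ha : a ≤ sz X) :
    x X a ∈ spn x T := Submodule.subset_span ⟨X, a, hX, ha, rfl⟩

theorem spn_le {x : Fin 4 → ℕ → (I27 → k)} {T : Fin 4 → Prop} {Z : Submodule k (I27 → k)}
    (h : ∀ X, T X → ∀ a ≤ sz X, x X a ∈ Z) : spn x T ≤ Z := by
  unfold spn
  rw [Submodule.span_le]
  rintro w ⟨X, a, hX, ha, rfl⟩
  exact h X hX a ha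

theorem spn_ind {x : Fin 4 → ℕ → (I27 → k)} {T : Fin 4 → Prop} {l : (I27 → k) →ₗ[k] k}
    (h : ∀ X, T X → ∀ a ≤ sz X, l (x X a) = 0) : ∀ v ∈ spn x T, l v = 0 := by
  intro v hv
  exact LinearMap.mem_ker.1 (spn_le (Z := LinearMap.ker l) (fun X hX a ha => LinearMap.mem_ker.2 (h X hX a ha)) hv)

theorem spn_st {x : Fin 4 → ℕ → (I27 → k)} (hx : ∀ X, Str κ ρ (sz X) (x X)) {T : Fin 4 → Prop}
    (g : SpecialLinearGroup (Fin 2) K) : ∀ v ∈ spn x T, ρ g v ∈ spn x T := by
  have h1 : spn x T ≤ (spn x T).comap (ρ g) := by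
    refine spn_le fun X hX a ha => ?_
    have h2 := str_stable (hx X) g (x X a) (Submodule.subset_span ⟨a, ha, rfl⟩)
    have h3 : Submodule.span k {w | ∃ a, a ≤ sz X ∧ w = x X a} ≤ spn x T := by
      rw [Submodule.span_le]
      rintro w ⟨b, hb, rfl⟩
      exact spn_mem hX hb
    exact h3 h2
  exact fun v hv => h1 hv

theorem spn_sup {x : Fin 4 → ℕ → (I27 → k)} (S : Sys κ ρ x) (T : Fin 4 → Prop) {v : I27 → k} (hv : tr1 v = 0) :
    ∃ y ∈ spn x T, ∃ z ∈ spn x (fun X => ¬ T X), v = y + z := by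
  classical
  have h1 : v ∈ spn x T ⊔ spn x (fun X => ¬ T X) := by
    refine Submodule.span_le.2 ?_ (S.span v hv)
    rintro w ⟨X, a, ha, rfl⟩
    by_cases hX : T X
    · exact Submodule.mem_sup_left (spn_mem hX ha)
    · exact Submodule.mem_sup_right (spn_mem (T := fun X => ¬ T X) hX ha)
  obtain ⟨y, hy, z, hz, e⟩ := Submodule.mem_sup.1 h1
  exact ⟨y, hy, z, hz, e.symm⟩

theorem spn_tr {x : Fin 4 → ℕ → (I27 → k)} (S : Sys κ ρ x) (T : Fin 4 → Prop) : ∀ v ∈ spn x T, tr1 v = 0 :=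
  spn_ind (l := trL k) fun X _ a ha => S.tr X a ha

/-- bilinear vanishing -/
theorem spn_tf {x : Fin 4 → ℕ → (I27 → k)} {T T' : Fin 4 → Prop}
    (h : ∀ X, T X → ∀ Y, T' Y → ∀ a ≤ sz X, ∀ b ≤ sz Y, tf (x X a) (x Y b) = 0) :
    ∀ v ∈ spn x T, ∀ w ∈ spn x T', tf v w = 0 := by
  intro v hv w hw
  refine spn_ind (l := tfL k v) (fun Y hY b hb => ?_) w hw
  rw [tfL_apply, tf_comm]
  refine spn_ind (l := tfL k (x Y b)) (fun X hX a ha => ?_) v hv
  rw [tfL_apply, tf_comm]
  exact h X hX Y hY a ha b hb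

/-- trilinear vanishing -/
theorem spn_N3 {x : Fin 4 → ℕ → (I27 → k)} {T T' T'' : Fin 4 → Prop}
    (h : ∀ X, T X → ∀ Y, T' Y → ∀ Z, T'' Z → ∀ a ≤ sz X, ∀ b ≤ sz Y, ∀ c ≤ sz Z, tf (st (x X a) (x Y b)) (x Z c) = 0) :
    ∀ v ∈ spn x T, ∀ w ∈ spn x T', ∀ z ∈ spn x T'', tf (st v w) z = 0 := by
  intro v hv w hw z hz
  refine spn_ind (l := N3 k v w) (fun Z hZ c hc => ?_) z hz
  refine spn_ind (l := (N3 k v).flip (x Z c)) (fun Y hY b hb => ?_) w hw
  rw [LinearMap.flip_apply]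
  refine spn_ind (l := ((N3 k).flip (x Y b)).flip (x Z c)) (fun X hX a ha => ?_) v hv
  rw [LinearMap.flip_apply, LinearMap.flip_apply]
  exact h X hX Y hY Z hZ a ha b hb c hc

end str

section main

variable {F : Type u} [Field F] [Fintype F] {K : Type w} [Field K] [Fintype K] {p a b : ℕ}
  {H : Subgroup ↥(chevF4.group F)} {φ : ProjectiveSpecialLinearGroup (Fin 2) K →* ↥(chevF4.group F)}
variable {k : Type u} [Field k] {f : F →+* k} [Fact p.Prime] [CharP k p] {κ : K →+* k}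

/-- **type alpha does not occur** -/
theorem no_sys (h : Cfg p a b H φ) (hp : 11 ≤ p) (hpK : p ≤ Fintype.card K) (hsq : ∀ c : k, ∃ r, r * r = c)
    {x : Fin 4 → ℕ → (I27 → k)} (S : Sys κ (Rk f φ) x) : False := by
  have hnat : ∀ n : ℕ, 0 < n → n ≤ 8 → (n : k) ≠ 0 := by
    intro n h0 h1 h
    rw [CharP.cast_eq_zero_iff k p] at h
    have := Nat.le_of_dvd h0 h
    omega
  have h2 : (2 : k) ≠ 0 := by exact_mod_cast hnat 2 (by norm_num) (by norm_num)
  have h3 : (3 : k) ≠ 0 := by exact_mod_cast hnat 3 (by norm_num) (by norm_num)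
  have hszp : ∀ X, sz X < p := fun X => by have := sz_le X; omega
  obtain ⟨s, fr, -⟩ := exists_fr f
  have hA := act_Rk (f := f) φ
  have hρ := Rk_sv φ fr
  obtain ⟨y, κ₀, Sy, A, k012, hker⟩ := S.exists_norm' hA hp hpK hsq
  clear S
  obtain ⟨k013, k113, k023, k003, k223, k333⟩ := A.c2 h2 h3 hnat k012
  obtain ⟨d001, d111, d122, d133⟩ := A.dead h2
  have hch : ∀ X : Fin 4, ∀ a ≤ sz X, ((sz X).choose a : k) ≠ 0 := fun X a ha => R2.F4N.choose_ne (p := p) (hszp X) ha
  -- values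
  have hval : ∀ X Y Z : Fin 4, kS κ₀ X Y Z = 0 → ∀ a ≤ sz X, ∀ b ≤ sz Y, ∀ c ≤ sz Z,
      tf (st (y X a) (y Y b)) (y Z c) = 0 := by
    intro X Y Z h0 a ha b hb c hc
    have h1 := A.val (x := (X, a)) (y := (Y, b)) (z := (Z, c)) ha hb hc
    simp only at h1
    rw [h0, zero_mul, st_smul_left, st_smul_right, tf_smul_left, tf_smul_left, tf_smul_right] at h1
    exact (mul_eq_zero.1 ((mul_eq_zero.1 ((mul_eq_zero.1 h1).resolve_left (hch X a ha))).resolve_left
      (hch Y b hb))).resolve_left (hch Z c hc)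
  have hform : ∀ X Y : Fin 4, X ≠ Y → ∀ a ≤ sz X, ∀ b ≤ sz Y, tf (y X a) (y Y b) = 0 := by
    intro X Y hXY a ha b hb
    have h1 := A.form (X, a) (Y, b) ha hb
    simp only at h1
    rw [tI, if_neg (fun h => hXY h.1), Int.cast_zero, tf_smul_left, tf_smul_right] at h1
    exact (mul_eq_zero.1 ((mul_eq_zero.1 h1).resolve_left (hch X a ha))).resolve_left (hch Y b hb)
  -- the pieces
  have hort : ∀ T : Fin 4 → Prop, ∀ v ∈ spn y T, ∀ w ∈ spn y (fun X => ¬ T X), tf v w = 0 := by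
    intro T
    refine spn_tf fun X hX Y hY a ha b hb => hform X Y ?_ a ha b hb
    rintro rfl
    exact hY hX
  have hmem : ∀ T : Fin 4 → Prop, ∀ v, tr1 v = 0 → (∀ w ∈ spn y (fun X => ¬ T X), tf v w = 0) → v ∈ spn y T := by
    intro T v hv h1
    exact (mem_of_orth (compl_of h3 (spn_tr Sy T) (spn_tr Sy _) (fun v hv => spn_sup Sy T hv) (hort T)) h3
      (spn_tr Sy T) (spn_tr Sy _) (hort T) hv).1 h1
  have htr : ∀ X : Fin 4, ∀ a ≤ sz X, tr1 (sv s (y X a)) = 0 := fun X a ha => by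
    rw [sv_tr, Sy.tr X a ha, map_zero]
  have hsd : ∀ X Y : Fin 4, sz X ≠ sz Y → ∀ a ≤ sz X, ∀ b ≤ sz Y, tf (sv s (y X a)) (y Y b) = 0 := by
    intro X Y hXY a ha b hb
    exact tf_diff hpK hA (str_sv hρ (Sy.str X)) (Sy.str Y) (hszp X) (hszp Y) hXY a ha b hb
  have hstr : ∀ X : Fin 4, Str (s.comp κ) (Rk f φ) (sz X) (fun a => sv s (y X a)) := fun X => str_sv hρ (Sy.str X)
  -- `y 0` and `y 1` are stable
  have s01 : ∀ X : Fin 4, (∀ Y, Y ≠ X → sz X ≠ sz Y) → ∀ a ≤ sz X, sv s (y X a) ∈ spn y (fun Z => Z = X) := by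
    intro X hX a ha
    refine hmem _ _ (htr X a ha) fun w hw => ?_
    refine spn_ind (l := tfL k (sv s (y X a))) (fun Y hY b hb => ?_) w hw
    exact hsd X Y (hX Y hY) a ha b hb
  have hspX : ∀ X : Fin 4, ∀ v ∈ spn y (fun Z => Z = X), v ∈ Submodule.span k {w | ∃ a, a ≤ sz X ∧ w = y X a} := by
    intro X v hv
    have h4 : spn y (fun Z => Z = X) ≤ Submodule.span k {w | ∃ a, a ≤ sz X ∧ w = y X a} := by
      refine spn_le fun Z hZ a ha => ?_
      subst hZ
      exact Submodule.subset_span ⟨a, ha, rfl⟩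
    exact h4 hv
  -- the span of the image of a stable string is the string
  have hback : ∀ X : Fin 4, (∀ a ≤ sz X, sv s (y X a) ∈ spn y (fun Z => Z = X)) → ∀ a ≤ sz X,
      y X a ∈ Submodule.span k {w | ∃ a, a ≤ sz X ∧ w = sv s (y X a)} := by
    intro X hX
    refine str_mem_of hpK (Sy.str X) (hszp X) (str_stable (hstr X)) (v := sv s (y X 0))
      (Submodule.subset_span ⟨0, Nat.zero_le _, rfl⟩) (fun h0 => Sy.ne X (Nat.zero_le _) (sv_inj h0))
      (hspX X _ (hX 0 (Nat.zero_le _)))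
  have sz0 : ∀ Y : Fin 4, Y ≠ 0 → sz 0 ≠ sz Y := by decide
  have sz1 : ∀ Y : Fin 4, Y ≠ 1 → sz 1 ≠ sz Y := by decide
  have sz23 : ∀ Y : Fin 4, Y ≠ 2 → Y ≠ 3 → sz 2 ≠ sz Y := by decide
  have b0 := hback 0 (s01 0 sz0)
  have b1 := hback 1 (s01 1 sz1)
  -- the product of `y 0` and `y 1` is orthogonal to the image of `y 2`
  have hk2 : ∀ i ≤ sz 0, ∀ j ≤ sz 1, ∀ c ≤ sz 2, tf (st (y 0 i) (y 1 j)) (sv s (y 2 c)) = 0 := by
    intro i hi j hj c hc
    have e1 : ∀ v ∈ Submodule.span k {w | ∃ a, a ≤ sz 0 ∧ w = sv s (y 0 a)},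
        ∀ w ∈ Submodule.span k {w | ∃ a, a ≤ sz 1 ∧ w = sv s (y 1 a)}, N3 k v w (sv s (y 2 c)) = 0 := by
      intro v hv w hw
      refine spa_ind (l := (N3 k v).flip (sv s (y 2 c))) (fun j' hj' => ?_) w hw
      rw [LinearMap.flip_apply]
      refine spa_ind (l := ((N3 k).flip (sv s (y 1 j'))).flip (sv s (y 2 c))) (fun i' hi' => ?_) v hv
      rw [LinearMap.flip_apply, LinearMap.flip_apply, N3_apply, sv_st, sv_tf, hker i' hi' j' hj' c hc, map_zero]
    exact e1 _ (b0 i hi) _ (b1 j hj)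
  -- `y 2` is stable
  have s2 : ∀ c ≤ sz 2, sv s (y 2 c) ∈ spn y (fun Z => Z = 2) := by
    intro c hc
    obtain ⟨v, hv, z, hz, e⟩ := spn_sup Sy (fun Z => Z = 2) (htr 2 c hc)
    -- `z` is in the span of `y 3`
    have hz3 : z ∈ spn y (fun Z => Z = 3) := by
      refine hmem _ _ (spn_tr Sy _ z hz) fun w hw => ?_
      have hze : z = sv s (y 2 c) - v := by rw [e]; abel
      refine spn_ind (l := tfL k z) (fun Y hY b hb => ?_) w hw
      rw [tfL_apply]
      by_cases hY2 : Y = 2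
      · subst hY2
        rw [tf_comm]
        exact hort (fun Z => Z = 2) _ (spn_mem (T := fun Z => Z = 2) rfl hb) _ hz
      · have hY01 : sz 2 ≠ sz Y := sz23 Y hY2 hY
        rw [hze, Cfsg.Agent.H952.F4.FixV.tf_sub_left, hsd 2 Y hY01 c hc b hb,
          hort (fun Z => Z = 2) v hv _ (spn_mem (T := fun Z => ¬ (Z = 2)) hY2 hb), sub_zero]
    have hz0 : z = 0 := by
      by_contra hne
      let Z : Submodule k (I27 → k) :=
        { carrier := {z | ∀ v ∈ spn y (fun Z => Z = 0), ∀ w ∈ spn y (fun Z => Z = 1), N3 k v w z = 0}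
          add_mem' := fun h h' v hv w hw => by rw [map_add, h v hv w hw, h' v hv w hw, add_zero]
          zero_mem' := fun v _ w _ => by rw [map_zero]
          smul_mem' := fun r z h v hv w hw => by rw [map_smul, h v hv w hw, smul_zero] }
      have hZ : ∀ g, ∀ v ∈ Z, Rk f φ g v ∈ Z := by
        intro g z hz v hv w hw
        have e1 : v = Rk f φ g (Rk f φ g⁻¹ v) := by
          rw [← Module.End.mul_apply, ← map_mul, mul_inv_cancel, map_one, Module.End.one_apply]
        have e2 : w = Rk f φ g (Rk f φ g⁻¹ w) := by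
          rw [← Module.End.mul_apply, ← map_mul, mul_inv_cancel, map_one, Module.End.one_apply]
        rw [e1, e2, N3_inv hA]
        exact hz _ (spn_st Sy.str _ _ hv) _ (spn_st Sy.str _ _ hw)
      have hzZ : z ∈ Z := by
        intro v' hv' w' hw'
        have hze : z = sv s (y 2 c) - v := by rw [e]; abel
        rw [hze, map_sub, sub_eq_zero]
        have t1 : N3 k v' w' v = 0 := by
          rw [N3_apply]
          refine spn_N3 (T := fun Z => Z = 0) (T' := fun Z => Z = 1) (T'' := fun Z => Z = 2) ?_ v' hv' w' hw' v hv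
          rintro X rfl Y rfl Z rfl a ha b hb c' hc'
          exact hker a ha b hb c' hc'
        have t2 : N3 k v' w' (sv s (y 2 c)) = 0 := by
          refine spn_ind (l := (N3 k v').flip (sv s (y 2 c))) (fun Y hY b hb => ?_) w' hw'
          rw [LinearMap.flip_apply]
          refine spn_ind (l := ((N3 k).flip (y Y b)).flip (sv s (y 2 c))) (fun X hX a ha => ?_) v' hv'
          rw [LinearMap.flip_apply, LinearMap.flip_apply]
          subst hX
          subst hY
          exact hk2 a ha b hb c hc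
        rw [t1, t2]
      have h5 := str_mem_of hpK (Sy.str 3) (hszp 3) hZ hzZ hne (hspX 3 z hz3) 3 (by decide)
      have h6 := h5 (y 0 0) (spn_mem (T := fun Z => Z = 0) rfl (Nat.zero_le _)) (y 1 6)
        (spn_mem (T := fun Z => Z = 1) rfl (by decide))
      rw [N3_apply] at h6
      have h7 := A.tab (0, 0) (1, 6) (3, 3) (by decide) (by decide) (by decide) (by decide) (by decide)
      simp only at h7
      rw [st_smul_left, st_smul_right, tf_smul_left, tf_smul_left, tf_smul_right, h6] at h7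
      have t4 : H1.F4.t3 (0, 0) (1, 6) (3, 3) = 1 := by decide +kernel
      rw [t4] at h7
      simp only [mul_zero, Int.cast_one, mul_one] at h7
      exact k013 h7.symm
    rw [e, hz0, add_zero]
    exact hv
  have b2 := hback 2 s2
  -- `y 3` is stable
  have s3 : ∀ c ≤ sz 3, sv s (y 3 c) ∈ spn y (fun Z => Z = 3) := by
    intro c hc
    refine hmem _ _ (htr 3 c hc) fun w hw => ?_
    refine spn_ind (l := tfL k (sv s (y 3 c))) (fun Y hY b hb => ?_) w hw
    rw [tfL_apply]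
    by_cases hY2 : Y = 2
    · subst hY2
      rw [← tfL_apply]
      refine spa_ind (l := tfL k (sv s (y 3 c))) (fun j' hj' => ?_) _ (b2 b hb)
      rw [tfL_apply, sv_tf, hform 3 2 (by decide) c hc j' hj', map_zero]
    · have hY01 : sz 3 ≠ sz Y := sz23 Y hY2 hY
      exact hsd 3 Y hY01 c hc b hb
  -- the grading
  have hsv : ∀ T : Fin 4 → Prop, ∀ v ∈ spn y T, sv s v ∈ spn y T := by
    intro T v hv
    have hall : ∀ X : Fin 4, ∀ a ≤ sz X, sv s (y X a) ∈ spn y (fun Z => Z = X) := by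
      intro X
      fin_cases X
      · exact s01 0 sz0
      · exact s01 1 sz1
      · exact s2
      · exact s3
    have hle : ∀ X, T X → spn y (fun Z => Z = X) ≤ spn y T := by
      intro X hX
      refine spn_le fun Z hZ a ha => ?_
      subst hZ
      exact spn_mem hX ha
    unfold spn at hv
    induction hv using Submodule.span_induction with
    | mem w hw =>
      obtain ⟨X, a, hX, ha, rfl⟩ := hw
      exact hle X hX (hall X a ha)
    | zero =>
      have : sv s (0 : I27 → k) = 0 := funext fun _ => map_zero s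
      rw [this]
      exact Submodule.zero_mem _
    | add w w' _ _ ih ih' =>
      rw [sv_add]
      exact Submodule.add_mem _ ih ih'
    | smul r w _ ih =>
      rw [sv_smul]
      exact Submodule.smul_mem _ _ ih
  let T : Fin 4 → Prop := fun X => X = 0 ∨ X = 2
  have hT' : ∀ X : Fin 4, ¬ T X → X = 1 ∨ X = 3 := by
    intro X hX
    have h4 : ∀ X : Fin 4, ¬ (X = 0 ∨ X = 2) → X = 1 ∨ X = 3 := by decide
    exact h4 X hX
  have hQ := no_grade h fr h2 h3 (P := spn y T) (Q := spn y (fun X => ¬ T X)) (spn_tr Sy _) (spn_tr Sy _)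
    (fun v hv => spn_sup Sy T hv) (hort T) (spn_N3 (by
      rintro X (rfl | rfl) Y (rfl | rfl) Z hZ <;> rcases hT' Z hZ with rfl | rfl <;> apply hval <;>
        simp only [kS] <;> simp [d001, k003, k012, k023, d122, k223])) (spn_N3 (by
      intro X hX Y hY Z hZ
      rcases hT' X hX with rfl | rfl <;> rcases hT' Y hY with rfl | rfl <;> rcases hT' Z hZ with rfl | rfl <;>
        apply hval <;> simp only [kS] <;> simp [d111, k113, d133, k333]))
    (fun g => spn_st Sy.str g) (fun g => spn_st Sy.str g) (hsv T) (hsv _)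
  have h8 : y 1 0 ∈ spn y (fun X => ¬ T X) := spn_mem (T := fun X => ¬ T X) (by
    change ¬ ((1 : Fin 4) = 0 ∨ (1 : Fin 4) = 2)
    decide) (Nat.zero_le _)
  rw [hQ, Submodule.mem_bot] at h8
  exact Sy.ne 1 (Nat.zero_le _) h8

end main

end Cfsg.Agent.R2.H1.F4
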