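import Cfsg.Agent.R2.H1.F4.AlphaF
import Cfsg.Agent.R2.H28.SL2.Bas

/-!
# S5931: type alpha does not occur, in terms of submodules (helper1)
-/

set_option autoImplicit false
set_option linter.unusedSectionVars false

namespace Cfsg.Agent.R2.H1.F4

open Cfsg Cfsg.Lie Module Cfsg.Agent.H952.F4 Cfsg.Agent.H952.F4.Jord
open Cfsg.Agent.ChevalleyStructure.E6Min.Tables Cfsg.Agent.ChevalleyStructure.E6Min.Basic
open Cfsg.Agent.R2.F4N (Str)
open Cfsg.Agent.H952.F4.FixV (W0 mem_W0 finrank_W0 trL tfL tfL_apply tr1_sub)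
open Cfsg.Agent.R2.F4M (Jr Rk R0 Cfg)
open Cfsg.Agent.H943.RepAdd Cfsg.Agent.R2.H28.SL2
open Finset

universe u v w

section

variable {K : Type w} [Field K] [Fintype K] [DecidableEq K] {p : ℕ}
variable {k : Type u} [Field k] [DecidableEq k] [Fact p.Prime] [CharP k p] [CharP K p] {ι : K →+* k}
variable {V : Type v} [AddCommGroup V] [Module k V] {σ : Representation k (Matrix.SpecialLinearGroup (Fin 2) K) V}
variable {ρ : Representation k (Matrix.SpecialLinearGroup (Fin 2) K) (I27 → k)} {j : V →ₗ[k] (I27 → k)}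

/-- strings from submodules -/
theorem exists_str (hj : ∀ g x, j (σ g x) = ρ g (j x)) {n i : ℕ} (hn : n < p) {A : Submodule k V}
    {hA : ∀ g, ∀ x ∈ A, σ g x ∈ A} (hV : IsV ι p (subRep σ A hA) (n * p ^ i)) :
    ∃ x : ℕ → (I27 → k), Str ((iterateFrobenius k p i).comp ι) ρ n x ∧ (∀ a, ∃ y ∈ A, x a = j y) ∧
      ∀ y ∈ A, j y ∈ Submodule.span k {w | ∃ a, a ≤ n ∧ w = x a} := by
  obtain ⟨v, hv⟩ := hV.basS ι p hn
  have hκ : ∀ t : K, ((iterateFrobenius k p i).comp ι) t = ι t ^ p ^ i := fun t => by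
    rw [RingHom.comp_apply, iterateFrobenius_def]
  have hap : ∀ g (y : ↥A), ρ g (j (y : V)) = j ((subRep σ A hA g y : ↥A) : V) := fun g y => (hj g y).symm
  refine ⟨fun a => j (v a : V), ⟨?_, ?_, ?_⟩, fun a => ⟨v a, (v a).2, rfl⟩, ?_⟩
  · intro s hs t
    rw [hap, hv.u s hs t, AddSubmonoidClass.coe_finsetSum, map_sum]
    refine sum_congr rfl fun l _ => ?_
    rw [hκ, Submodule.coe_smul, map_smul]
  · intro s hs t
    rw [hap, hv.h s hs t, hκ, Submodule.coe_smul, map_smul]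
  · intro s hs
    rw [hap, hv.w s hs, Submodule.coe_smul, map_smul]
  · intro y hy
    have h1 := hv.sp (x := ⟨y, hy⟩) trivial
    have h2 : (Submodule.span k (Set.range fun s : Fin (n + 1) => v s)) ≤
        (Submodule.span k {w | ∃ a, a ≤ n ∧ w = j (v a : V)}).comap (j ∘ₗ A.subtype) := by
      rw [Submodule.span_le]
      rintro w ⟨s, rfl⟩
      exact Submodule.subset_span ⟨s, by have := s.2; omega, rfl⟩
    exact h2 h1

end

section

variable {F : Type u} [Field F] [Fintype F] {K : Type w} [Field K] [Fintype K] [DecidableEq K] {p a b : ℕ}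
  {H : Subgroup ↥(chevF4.group F)} {φ : Matrix.ProjectiveSpecialLinearGroup (Fin 2) K →* ↥(chevF4.group F)}
variable {k : Type u} [Field k] [DecidableEq k] {f : F →+* k} [Fact p.Prime] [CharP k p] [CharP K p] {ι : K →+* k}
variable {V : Type v} [AddCommGroup V] [Module k V] {σ : Representation k (Matrix.SpecialLinearGroup (Fin 2) K) V}
variable {j : V →ₗ[k] (I27 → k)}

/-- **type alpha does not occur** -/
theorem no_alpha (h : Cfg p a b H φ) (hp : 11 ≤ p) (hpK : p ≤ Fintype.card K) [IsAlgClosed k]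
    (hj : ∀ g x, j (σ g x) = Rk f φ g (j x)) (hjt : ∀ x, tr1 (j x) = 0) (hjs : ∀ y, tr1 y = 0 → ∃ x, j x = y) {r : ℕ}
    {A B M M' : Submodule k V} {hA : ∀ g, ∀ x ∈ A, σ g x ∈ A} {hB : ∀ g, ∀ x ∈ B, σ g x ∈ B}
    {hM : ∀ g, ∀ x ∈ M, σ g x ∈ M} {hM' : ∀ g, ∀ x ∈ M', σ g x ∈ M'}
    (vA : IsV ι p (subRep σ A hA) (8 * p ^ r)) (vB : IsV ι p (subRep σ B hB) (6 * p ^ r))
    (vM : IsV ι p (subRep σ M hM) (4 * p ^ r)) (vM' : IsV ι p (subRep σ M' hM') (4 * p ^ r))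
    (hs : A ⊔ B ⊔ M ⊔ M' = ⊤) : False := by
  obtain ⟨x0, s0, t0, e0⟩ := exists_str (ρ := Rk f φ) hj (by omega) vA
  obtain ⟨x1, s1, t1, e1⟩ := exists_str (ρ := Rk f φ) hj (by omega) vB
  obtain ⟨x2, s2, t2, e2⟩ := exists_str (ρ := Rk f φ) hj (by omega) vM
  obtain ⟨x3, s3, t3, e3⟩ := exists_str (ρ := Rk f φ) hj (by omega) vM'
  have hsq : ∀ c : k, ∃ r, r * r = c := by
    intro c
    obtain ⟨r, hr⟩ := IsAlgClosed.exists_pow_nat_eq c (n := 2) (by norm_num)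
    exact ⟨r, by rw [← hr]; ring⟩
  refine no_sys (f := f) (x := ![x0, x1, x2, x3]) (κ := (iterateFrobenius k p r).comp ι) h hp hpK hsq ⟨?_, ?_, ?_⟩
  · intro X
    fin_cases X
    · exact s0
    · exact s1
    · exact s2
    · exact s3
  · intro X c _
    fin_cases X
    · obtain ⟨y, _, hy⟩ := t0 c
      exact (congrArg tr1 hy).trans (hjt y)
    · obtain ⟨y, _, hy⟩ := t1 c
      exact (congrArg tr1 hy).trans (hjt y)
    · obtain ⟨y, _, hy⟩ := t2 c
      exact (congrArg tr1 hy).trans (hjt y)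
    · obtain ⟨y, _, hy⟩ := t3 c
      exact (congrArg tr1 hy).trans (hjt y)
  · intro v hv
    obtain ⟨v', rfl⟩ := hjs v hv
    have h1 : v' ∈ A ⊔ B ⊔ M ⊔ M' := by rw [hs]; trivial
    have key : ∀ (X : Fin 4) (Y : Submodule k V) (m : ℕ) (z : ℕ → (I27 → k)), m = sz X →
        z = (![x0, x1, x2, x3] : Fin 4 → ℕ → (I27 → k)) X →
        (∀ y ∈ Y, j y ∈ Submodule.span k {w | ∃ a, a ≤ m ∧ w = z a}) → ∀ y ∈ Y, j y ∈
        Submodule.span k {w | ∃ X a, a ≤ sz X ∧ w = (![x0, x1, x2, x3] : Fin 4 → ℕ → (I27 → k)) X a} := by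
      rintro X Y m z rfl rfl h2 y hy
      refine Submodule.span_mono ?_ (h2 y hy)
      rintro w ⟨c, hc, rfl⟩
      exact ⟨X, c, hc, rfl⟩
    obtain ⟨y123, hy, y3, hy3, e⟩ := Submodule.mem_sup.1 h1
    obtain ⟨y12, hy', y2, hy2, e'⟩ := Submodule.mem_sup.1 hy
    obtain ⟨y0, hy0, y1, hy1, e''⟩ := Submodule.mem_sup.1 hy'
    have e4 : j v' = j y0 + j y1 + j y2 + j y3 := by
      rw [← e, ← e', ← e'', map_add, map_add, map_add]
    rw [e4]
    exact Submodule.add_mem _ (Submodule.add_mem _ (Submodule.add_mem _ (key 0 A 8 x0 rfl rfl e0 y0 hy0)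
      (key 1 B 6 x1 rfl rfl e1 y1 hy1)) (key 2 M 4 x2 rfl rfl e2 y2 hy2)) (key 3 M' 4 x3 rfl rfl e3 y3 hy3)

end

end Cfsg.Agent.R2.H1.F4
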