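import Mathlib

/-!
# S5931: the invariant trilinear forms on three modules of `SL₂` (helper1)

* `tau A B C a b c` : the coefficient of `t₁^a t₂^b t₃^c` in `(t₁ - t₂)^A (t₁ - t₃)^B (t₂ - t₃)^C`;
* `tab` : a function `F a b c` with the relations of an invariant trilinear form (scaled bases) is `κ * tau A B C a b c`.
-/

set_option autoImplicit false

namespace Cfsg.Agent.R2.H1.F4

universe u

/-- the coefficient of `t₁^a t₂^b t₃^c` in `(t₁ - t₂)^A (t₁ - t₃)^B (t₂ - t₃)^C` -/
def tau (A B C a b c : ℕ) : ℤ :=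
  ∑ x ∈ Finset.range (A + 1), ∑ y ∈ Finset.range (B + 1),
    if y ≤ c ∧ c - y ≤ C ∧ a + x + y = A + B ∧ b + (c - y) = x + C then
      (-1) ^ (x + c) * (A.choose x : ℤ) * (B.choose y : ℤ) * (C.choose (c - y) : ℤ) else 0

theorem tau_eq_zero {A B C a b c : ℕ} (h : ∀ x ≤ A, ∀ y ≤ B, y ≤ c → c - y ≤ C → a + x + y = A + B →
    b + (c - y) = x + C → False) : tau A B C a b c = 0 := by
  unfold tau
  refine Finset.sum_eq_zero fun x hx => Finset.sum_eq_zero fun y hy => ?_
  rw [if_neg]
  rintro ⟨h1, h2, h3, h4⟩
  exact h x (by simpa [Nat.lt_succ_iff] using hx) y (by simpa [Nat.lt_succ_iff] using hy) h1 h2 h3 h4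

theorem tau_level {A B C a b c : ℕ} (h : a + b + c ≠ A + B + C) : tau A B C a b c = 0 :=
  tau_eq_zero fun x _ y _ h1 h2 h3 h4 => h (by omega)

theorem tau_left {A B C a b c : ℕ} (h : A + B < a) : tau A B C a b c = 0 :=
  tau_eq_zero fun x _ y _ h1 h2 h3 h4 => by omega

theorem tau_mid {A B C a b c : ℕ} (h : A + C < b) : tau A B C a b c = 0 :=
  tau_eq_zero fun x _ y _ h1 h2 h3 h4 => by omega

theorem tau_right {A B C a b c : ℕ} (h : B + C < c) : tau A B C a b c = 0 :=
  tau_eq_zero fun x _ y _ h1 h2 h3 h4 => by omega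

/-- the finite check for `tau` -/
def tauOK (A B C : ℕ) : Bool :=
  (List.range (A + B + 1)).all fun a => (List.range (A + C + 1)).all fun b => (List.range (B + C + 1)).all fun c =>
    (!(a + b + c + 1 == A + B + C) ||
      decide (((a : ℤ) + 1) * tau A B C (a + 1) b c + ((b : ℤ) + 1) * tau A B C a (b + 1) c +
        ((c : ℤ) + 1) * tau A B C a b (c + 1) = 0)) &&
    (!(a + b + c == A + B + C) ||
      decide (tau A B C a b c = (-1) ^ (a + b + c) * tau A B C (A + B - a) (A + C - b) (B + C - c)))

variable {k : Type u} [Field k]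

/-- **the table** -/
theorem tab (A B C : ℕ) (hOK : tauOK A B C = true) (hu : tau A B C 0 (A + C) B = (-1) ^ (A + B)) (F : ℕ → ℕ → ℕ → k)
    (he : ∀ a b c : ℕ, ((a : k) + 1) * F (a + 1) b c + ((b : k) + 1) * F a (b + 1) c + ((c : k) + 1) * F a b (c + 1) = 0)
    (hz1 : ∀ a b c, A + B < a → F a b c = 0) (hz2 : ∀ a b c, A + C < b → F a b c = 0)
    (hz3 : ∀ a b c, B + C < c → F a b c = 0)
    (hw : ∀ a ≤ A + B, ∀ b ≤ A + C, ∀ c ≤ B + C, F a b c = (-1) ^ (a + b + c) * F (A + B - a) (A + C - b) (B + C - c))
    (hv : ∀ a b c, a + b + c ≠ A + B + C → F a b c = 0)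
    (hp : ∀ n : ℕ, 0 < n → n ≤ B ∨ n ≤ A + C → (n : k) ≠ 0) :
    ∃ κ : k, ∀ a b c, F a b c = κ * (tau A B C a b c : k) := by
  have hchk : ∀ a ≤ A + B, ∀ b ≤ A + C, ∀ c ≤ B + C,
      ((a : ℤ) + 1) * tau A B C (a + 1) b c + ((b : ℤ) + 1) * tau A B C a (b + 1) c +
        ((c : ℤ) + 1) * tau A B C a b (c + 1) = 0 ∧
      tau A B C a b c = (-1) ^ (a + b + c) * tau A B C (A + B - a) (A + C - b) (B + C - c) := by
    intro a ha b hb c hc
    unfold tauOK at hOK
    rw [List.all_eq_true] at hOK
    have h1 := hOK a (List.mem_range.2 (by omega))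
    rw [List.all_eq_true] at h1
    have h2 := h1 b (List.mem_range.2 (by omega))
    rw [List.all_eq_true] at h2
    have h3 := h2 c (List.mem_range.2 (by omega))
    rw [Bool.and_eq_true, Bool.or_eq_true, Bool.or_eq_true, decide_eq_true_eq, decide_eq_true_eq,
      Bool.not_eq_true', Bool.not_eq_true', beq_eq_false_iff_ne, beq_eq_false_iff_ne] at h3
    refine ⟨?_, ?_⟩
    · rcases h3.1 with h4 | h4
      · rw [tau_level (by omega), tau_level (by omega), tau_level (by omega)]
        simp
      · exact h4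
    · rcases h3.2 with h4 | h4
      · rw [tau_level h4, tau_level (by omega)]
        simp
      · exact h4
  refine ⟨(-1) ^ (A + B) * F 0 (A + C) B, ?_⟩
  set κ : k := (-1) ^ (A + B) * F 0 (A + C) B with hκ
  set D : ℕ → ℕ → ℕ → k := fun a b c => F a b c - κ * (tau A B C a b c : k) with hD
  suffices h : ∀ a b c, D a b c = 0 from fun a b c => sub_eq_zero.1 (h a b c)
  have hτe : ∀ a b c : ℕ, ((a : k) + 1) * (tau A B C (a + 1) b c : k) + ((b : k) + 1) * (tau A B C a (b + 1) c : k) +
      ((c : k) + 1) * (tau A B C a b (c + 1) : k) = 0 := by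
    intro a b c
    by_cases h1 : a ≤ A + B ∧ b ≤ A + C ∧ c ≤ B + C
    · have h2 := (hchk a h1.1 b h1.2.1 c h1.2.2).1
      exact_mod_cast congrArg (Int.cast : ℤ → k) h2
    · by_cases ha : A + B < a
      · rw [tau_left (by omega), tau_left ha, tau_left ha]; simp
      · by_cases hb : A + C < b
        · rw [tau_mid hb, tau_mid (by omega), tau_mid hb]; simp
        · rw [tau_right (by omega), tau_right (by omega), tau_right (by omega)]; simp
  have hDe : ∀ a b c : ℕ, ((a : k) + 1) * D (a + 1) b c + ((b : k) + 1) * D a (b + 1) c +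
      ((c : k) + 1) * D a b (c + 1) = 0 := by
    intro a b c
    have h1 := he a b c
    have h2 := hτe a b c
    simp only [hD]
    linear_combination h1 - κ * h2
  have hDz2 : ∀ a b c, A + C < b → D a b c = 0 := by
    intro a b c h
    simp only [hD]
    rw [hz2 a b c h, tau_mid h]; simp
  have hDz1 : ∀ a b c, A + B < a → D a b c = 0 := by
    intro a b c h
    simp only [hD]
    rw [hz1 a b c h, tau_left h]; simp
  have hDz3 : ∀ a b c, B + C < c → D a b c = 0 := by
    intro a b c h
    simp only [hD]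
    rw [hz3 a b c h, tau_right h]; simp
  have hDv : ∀ a b c, a + b + c ≠ A + B + C → D a b c = 0 := by
    intro a b c h
    simp only [hD]
    rw [hv a b c h, tau_level h]; simp
  have hDw : ∀ a ≤ A + B, ∀ b ≤ A + C, ∀ c ≤ B + C,
      D a b c = (-1) ^ (a + b + c) * D (A + B - a) (A + C - b) (B + C - c) := by
    intro a ha b hb c hc
    have h1 := hw a ha b hb c hc
    have h2 : (tau A B C a b c : k) = (-1) ^ (a + b + c) * (tau A B C (A + B - a) (A + C - b) (B + C - c) : k) := by
      have := congrArg (Int.cast : ℤ → k) (hchk a ha b hb c hc).2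
      exact_mod_cast this
    simp only [hD]
    linear_combination h1 - κ * h2
  -- the row `b = A + C`
  have hrow : ∀ a, a ≤ B → D a (A + C) (B - a) = 0 := by
    intro a
    induction a with
    | zero =>
      intro _
      simp only [hD]
      rw [Nat.sub_zero, hu, hκ]
      push_cast
      have : ((-1 : k) ^ (A + B)) * ((-1) ^ (A + B)) = 1 := by
        rw [← mul_pow]; simp
      linear_combination (-F 0 (A + C) B) * this
    | succ a ih =>
      intro ha
      have h1 := ih (by omega)
      have h2 := hDe a (A + C) (B - (a + 1))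
      have h3 : B - (a + 1) + 1 = B - a := by omega
      rw [h3, h1, hDz2 a (A + C + 1) _ (by omega), mul_zero, mul_zero, add_zero, add_zero] at h2
      rcases mul_eq_zero.1 h2 with h4 | h4
      · exfalso
        refine hp (a + 1) (by omega) (Or.inl (by omega)) ?_
        push_cast
        exact h4
      · exact h4
  have hrow' : ∀ a c, D a (A + C) c = 0 := by
    intro a c
    by_cases h : a + c = B
    · have := hrow a (by omega)
      rwa [show B - a = c by omega] at this
    · exact hDv a (A + C) c (by omega)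
  -- the row `b = 0`
  have hrow0 : ∀ a c, D a 0 c = 0 := by
    intro a c
    by_cases ha : A + B < a
    · exact hDz1 a 0 c ha
    · by_cases hc : B + C < c
      · exact hDz3 a 0 c hc
      · rw [hDw a (by omega) 0 (by omega) c (by omega), Nat.sub_zero, hrow', mul_zero]
  have hall : ∀ b a c, D a b c = 0 := by
    intro b
    induction b with
    | zero => exact hrow0
    | succ b ih =>
      intro a c
      by_cases hb : A + C < b + 1
      · exact hDz2 a (b + 1) c hb
      · have h2 := hDe a b c
        rw [ih, ih, mul_zero, mul_zero, zero_add, add_zero] at h2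
        rcases mul_eq_zero.1 h2 with h4 | h4
        · exfalso
          refine hp (b + 1) (by omega) (Or.inr (by omega)) ?_
          push_cast
          exact h4
        · exact h4
  exact fun a b c => hall b a c

/-- an antisymmetric table gives zero for symmetric functions (first two arguments) -/
theorem tab_anti {A B C : ℕ} {F : ℕ → ℕ → ℕ → k} {κ : k} (h : ∀ a b c, F a b c = κ * (tau A B C a b c : k))
    (h2 : (2 : k) ≠ 0) {a b c : ℕ} (hs : F a b c = F b a c) (ht : tau A B C b a c = - tau A B C a b c)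
    (hne : (tau A B C a b c : k) ≠ 0) : κ = 0 := by
  rw [h, h, ht] at hs
  push_cast at hs
  have h1 : 2 * (κ * (tau A B C a b c : k)) = 0 := by linear_combination hs
  exact (mul_eq_zero.1 ((mul_eq_zero.1 h1).resolve_left h2)).resolve_right hne

end Cfsg.Agent.R2.H1.F4
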