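import Cfsg.Agent.R2.H1.F4.E4
import Cfsg.Agent.R2.H1.F4.Tab

/-!
# S5931: type alpha, the identities (helper1)

The trace-zero part is an orthogonal sum of strings of lengths 8, 6, 4, 4 with invariant trilinear form; `e4int` : the quartic
identity on the basis vectors with integral coefficients.
-/

set_option autoImplicit false

namespace Cfsg.Agent.R2.H1.F4

open Cfsg Cfsg.Lie Module Cfsg.Agent.H952.F4 Cfsg.Agent.H952.F4.Jord
open Cfsg.Agent.ChevalleyStructure.E6Min.Tables Cfsg.Agent.ChevalleyStructure.E6Min.Basic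

universe u

/-- the lengths -/
def sz : Fin 4 → ℕ := ![8, 6, 4, 4]

/-- the value of the table on sorted arguments -/
def t3 (x y z : Fin 4 × ℕ) : ℤ :=
  tau ((sz x.1 + sz y.1 - sz z.1) / 2) ((sz x.1 + sz z.1 - sz y.1) / 2) ((sz y.1 + sz z.1 - sz x.1) / 2) x.2 y.2 z.2

/-- the value of the table on arbitrary arguments -/
def tS (x y z : Fin 4 × ℕ) : ℤ :=
  if x.1 ≤ y.1 then (if y.1 ≤ z.1 then t3 x y z else if x.1 ≤ z.1 then t3 x z y else t3 z x y)
  else (if x.1 ≤ z.1 then t3 y x z else if y.1 ≤ z.1 then t3 y z x else t3 z y x)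

/-- the form on the basis -/
def tI (x y : Fin 4 × ℕ) : ℤ := if x.1 = y.1 ∧ x.2 + y.2 = sz x.1 then (-1) ^ x.2 * ((sz x.1).choose x.2 : ℤ) else 0

/-- the coefficients of the quartic identity -/
def co (x1 x2 x3 x4 : Fin 4 × ℕ) (X : Fin 4) : ℤ :=
  ∑ c ∈ Finset.range (sz X + 1), (-1) ^ c * (840 / ((sz X).choose c : ℤ)) * tS x1 x2 (X, c) * tS x3 x4 (X, sz X - c)

variable {k : Type u} [Field k]

/-- the parameter on arbitrary arguments -/
def kS (κ : Fin 4 → Fin 4 → Fin 4 → k) (X Y Z : Fin 4) : k :=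
  if X ≤ Y then (if Y ≤ Z then κ X Y Z else if X ≤ Z then κ X Z Y else κ Z X Y)
  else (if X ≤ Z then κ Y X Z else if Y ≤ Z then κ Y Z X else κ Z Y X)

/-- the situation: four orthogonal strings -/
structure Alpha (e : Fin 4 → ℕ → (I27 → k)) (κ : Fin 4 → Fin 4 → Fin 4 → k) : Prop where
  tr : ∀ X a, tr1 (e X a) = 0
  form : ∀ x y : Fin 4 × ℕ, x.2 ≤ sz x.1 → y.2 ≤ sz y.1 → tf (e x.1 x.2) (e y.1 y.2) = (tI x y : k)
  span : ∀ v : I27 → k, tr1 v = 0 → v ∈ Submodule.span k {w | ∃ X a, a ≤ sz X ∧ w = e X a}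
  tab : ∀ x y z : Fin 4 × ℕ, x.1 ≤ y.1 → y.1 ≤ z.1 → x.2 ≤ sz x.1 → y.2 ≤ sz y.1 → z.2 ≤ sz z.1 →
    tf (st (e x.1 x.2) (e y.1 y.2)) (e z.1 z.2) = κ x.1 y.1 z.1 * (t3 x y z : k)

namespace Alpha

variable {e : Fin 4 → ℕ → (I27 → k)} {κ : Fin 4 → Fin 4 → Fin 4 → k}

theorem val (H : Alpha e κ) {x y z : Fin 4 × ℕ} (hx : x.2 ≤ sz x.1) (hy : y.2 ≤ sz y.1) (hz : z.2 ≤ sz z.1) :
    tf (st (e x.1 x.2) (e y.1 y.2)) (e z.1 z.2) = kS κ x.1 y.1 z.1 * (tS x y z : k) := by
  have s1 : ∀ x y z : Fin 4 × ℕ, tf (st (e x.1 x.2) (e y.1 y.2)) (e z.1 z.2) =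
      tf (st (e y.1 y.2) (e x.1 x.2)) (e z.1 z.2) := fun x y z => by rw [st_comm]
  have s2 : ∀ x y z : Fin 4 × ℕ, tf (st (e x.1 x.2) (e y.1 y.2)) (e z.1 z.2) =
      tf (st (e x.1 x.2) (e z.1 z.2)) (e y.1 y.2) := fun x y z => by
    rw [st_comm (e x.1 x.2) (e y.1 y.2), tf_st_rot (H.tr _ _) (H.tr _ _), tf_comm]
  unfold kS tS
  by_cases h1 : x.1 ≤ y.1
  · by_cases h2 : y.1 ≤ z.1
    · rw [if_pos h1, if_pos h2, if_pos h1, if_pos h2]
      exact H.tab x y z h1 h2 hx hy hz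
    · by_cases h3 : x.1 ≤ z.1
      · rw [if_pos h1, if_neg h2, if_pos h3, if_pos h1, if_neg h2, if_pos h3, s2]
        exact H.tab x z y h3 (le_of_not_ge h2) hx hz hy
      · rw [if_pos h1, if_neg h2, if_neg h3, if_pos h1, if_neg h2, if_neg h3, s2, s1]
        exact H.tab z x y (le_of_not_ge h3) h1 hz hx hy
  · have h1' := le_of_not_ge h1
    by_cases h3 : x.1 ≤ z.1
    · rw [if_neg h1, if_pos h3, if_neg h1, if_pos h3, s1]
      exact H.tab y x z h1' h3 hy hx hz
    · have h3' := le_of_not_ge h3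
      by_cases h2 : y.1 ≤ z.1
      · rw [if_neg h1, if_neg h3, if_pos h2, if_neg h1, if_neg h3, if_pos h2, s1, s2]
        exact H.tab y z x h2 h3' hy hz hx
      · rw [if_neg h1, if_neg h3, if_neg h2, if_neg h1, if_neg h3, if_neg h2, s2, s1, s2]
        exact H.tab z y x (le_of_not_ge h2) h1' hz hy hx

theorem choose_ne (hp : ∀ n : ℕ, 0 < n → n ≤ 8 → (n : k) ≠ 0) (X : Fin 4) {c : ℕ} (hc : c ≤ sz X) :
    (((sz X).choose c : ℕ) : k) ≠ 0 := by
  have h1 : ∀ n ≤ 8, ((n.factorial : ℕ) : k) ≠ 0 := by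
    intro n
    induction n with
    | zero => intro _; simp
    | succ n ih =>
      intro hn
      rw [Nat.factorial_succ, Nat.cast_mul]
      exact mul_ne_zero (hp _ (by omega) hn) (ih (by omega))
  have h2 : sz X ≤ 8 := by fin_cases X <;> decide
  have h3 := Nat.choose_mul_factorial_mul_factorial hc
  intro h4
  apply h1 (sz X) h2
  rw [← h3, Nat.cast_mul, Nat.cast_mul, h4, zero_mul, zero_mul]

/-- expansion of the form in the basis -/
theorem parseval (H : Alpha e κ) (hp : ∀ n : ℕ, 0 < n → n ≤ 8 → (n : k) ≠ 0) (u v : I27 → k) (hv : tr1 v = 0) :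
    tf u v = ∑ X : Fin 4, ∑ c ∈ Finset.range (sz X + 1),
      (-1) ^ c * (((sz X).choose c : ℕ) : k)⁻¹ * tf u (e X c) * tf v (e X (sz X - c)) := by
  have hmem := H.span v hv
  clear hv
  induction hmem using Submodule.span_induction with
  | mem w hw =>
    obtain ⟨Y, b, hb, rfl⟩ := hw
    rw [Finset.sum_eq_single Y]
    · rw [Finset.sum_eq_single b]
      · rw [H.form (Y, b) (Y, sz Y - b) hb (Nat.sub_le _ _)]
        have e1 : tI (Y, b) (Y, sz Y - b) = (-1) ^ b * ((sz Y).choose b : ℤ) := by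
          unfold tI; rw [if_pos ⟨rfl, Nat.add_sub_of_le hb⟩]
        rw [e1]
        have hne := choose_ne hp Y hb
        push_cast
        have e2 : ((-1 : k) ^ b) * ((-1) ^ b) = 1 := by rw [← mul_pow]; simp
        field_simp
        linear_combination (-tf u (e Y b)) * e2
      · intro c hc hcb
        rw [Finset.mem_range] at hc
        rw [H.form (Y, b) (Y, sz Y - c) hb (Nat.sub_le _ _)]
        have e1 : tI (Y, b) (Y, sz Y - c) = 0 := by
          unfold tI; rw [if_neg]; rintro ⟨-, h⟩; simp only at h; omega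
        rw [e1]; simp
      · intro h
        exact absurd (Finset.mem_range.2 (by omega)) h
    · intro X _ hX
      refine Finset.sum_eq_zero fun c hc => ?_
      rw [H.form (Y, b) (X, sz X - c) hb (Nat.sub_le _ _)]
      have e1 : tI (Y, b) (X, sz X - c) = 0 := by
        unfold tI; rw [if_neg]; rintro ⟨h, -⟩; exact hX h.symm
      rw [e1]; simp
    · intro h; exact absurd (Finset.mem_univ Y) h
  | zero =>
    have e1 : ∀ w : I27 → k, tf (0 : I27 → k) w = 0 := fun w => by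
      have := tf_smul_left (0 : k) (0 : I27 → k) w
      rwa [zero_smul, zero_mul] at this
    rw [tf_comm, e1]
    symm
    refine Finset.sum_eq_zero fun X _ => Finset.sum_eq_zero fun c _ => ?_
    rw [e1, mul_zero]
  | add w w' _ _ ih ih' =>
    rw [tf_add_right, ih, ih', ← Finset.sum_add_distrib]
    refine Finset.sum_congr rfl fun X _ => ?_
    rw [← Finset.sum_add_distrib]
    refine Finset.sum_congr rfl fun c _ => ?_
    rw [tf_add_left]
    ring
  | smul a w _ ih =>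
    rw [tf_smul_right, ih, Finset.mul_sum]
    refine Finset.sum_congr rfl fun X _ => ?_
    rw [Finset.mul_sum]
    refine Finset.sum_congr rfl fun c _ => ?_
    rw [tf_smul_left]
    ring

/-- all the multiples of the binomial coefficients -/
theorem div840 (X : Fin 4) {c : ℕ} (hc : c ≤ sz X) : ((sz X).choose c : ℤ) * (840 / ((sz X).choose c : ℤ)) = 840 := by
  fin_cases X <;> simp only [sz, Fin.zero_eta, Fin.mk_one, Fin.reduceFinMk, Matrix.cons_val_zero, Matrix.cons_val_one,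
    Matrix.cons_val] at hc ⊢ <;> interval_cases c <;> decide

/-- the form on products -/
theorem pair (H : Alpha e κ) (h3 : (3 : k) ≠ 0) (hp : ∀ n : ℕ, 0 < n → n ≤ 8 → (n : k) ≠ 0) {x y z w : Fin 4 × ℕ}
    (hx : x.2 ≤ sz x.1) (hy : y.2 ≤ sz y.1) (hz : z.2 ≤ sz z.1) (hw : w.2 ≤ sz w.1) :
    840 * tf (st (e x.1 x.2) (e y.1 y.2)) (st (e z.1 z.2) (e w.1 w.2)) =
      ∑ X : Fin 4, kS κ x.1 y.1 X * kS κ z.1 w.1 X * (co x y z w X : k) := by
  rw [H.parseval hp _ _ (tr1_st h3 (H.tr _ _)), Finset.mul_sum]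
  refine Finset.sum_congr rfl fun X _ => ?_
  unfold co
  rw [Finset.mul_sum, Int.cast_sum, Finset.mul_sum]
  refine Finset.sum_congr rfl fun c hc => ?_
  have hc' : c ≤ sz X := by
    have := Finset.mem_range.1 hc
    omega
  have e1 := H.val (z := (X, c)) hx hy hc'
  have e2 := H.val (z := (X, sz X - c)) hz hw (Nat.sub_le _ _)
  simp only at e1 e2
  rw [e1, e2]
  have hne := choose_ne hp X hc'
  have e3 : (((sz X).choose c : ℕ) : k) * (((840 / ((sz X).choose c : ℤ) : ℤ)) : k) = 840 := by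
    have := congrArg (Int.cast : ℤ → k) (div840 X hc')
    push_cast at this
    exact_mod_cast this
  push_cast
  rw [← e3]
  field_simp

/-- **the quartic identity on the basis, integral coefficients** -/
theorem e4int (H : Alpha e κ) (h2 : (2 : k) ≠ 0) (h3 : (3 : k) ≠ 0) (hp : ∀ n : ℕ, 0 < n → n ≤ 8 → (n : k) ≠ 0)
    {x y z w : Fin 4 × ℕ} (hx : x.2 ≤ sz x.1) (hy : y.2 ≤ sz y.1) (hz : z.2 ≤ sz z.1) (hw : w.2 ≤ sz w.1) :
    (∑ X : Fin 4, kS κ x.1 y.1 X * kS κ z.1 w.1 X * (co x y z w X : k)) +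
    (∑ X : Fin 4, kS κ x.1 z.1 X * kS κ y.1 w.1 X * (co x z y w X : k)) +
    (∑ X : Fin 4, kS κ x.1 w.1 X * kS κ y.1 z.1 X * (co x w y z X : k)) =
      560 * ((tI x y * tI z w + tI x z * tI y w + tI x w * tI y z : ℤ) : k) := by
  rw [← H.pair h3 hp hx hy hz hw, ← H.pair h3 hp hx hz hy hw, ← H.pair h3 hp hx hw hy hz]
  have h := four h2 h3 (H.tr x.1 x.2) (H.tr y.1 y.2) (H.tr z.1 z.2) (H.tr w.1 w.2)
  rw [H.form x y hx hy, H.form z w hz hw, H.form x z hx hz, H.form y w hy hw, H.form x w hx hw, H.form y z hy hz] at h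
  push_cast
  have h4 : (2 / 3 : k) * 3 = 2 := by field_simp
  linear_combination 840 * h + 280 * ((tI x y : k) * tI z w + tI x z * tI y w + tI x w * tI y z) * h4

end Alpha

end Cfsg.Agent.R2.H1.F4
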