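import Cfsg.Agent.R2.H1.F4.StrIrr

/-!
# S5931: type alpha, normalisation of the bases (helper1)

`Sys.exists_norm` : there is an orthonormal system.
-/

set_option autoImplicit false
set_option linter.unusedSectionVars false

namespace Cfsg.Agent.R2.H1.F4

open Cfsg Cfsg.Lie Module Cfsg.Agent.H952.F4 Cfsg.Agent.H952.F4.Jord
open Cfsg.Agent.ChevalleyStructure.E6Min.Tables Cfsg.Agent.ChevalleyStructure.E6Min.Basic
open Cfsg.Agent.R2.F4N (Str)
open Cfsg.Agent.R2.F4L (Act)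
open Cfsg.Agent.H952.F4.FixV (W0 mem_W0 finrank_W0 trL tfL tfL_apply tr1_sub)
open Matrix Finset

universe u v w

section lin

variable {k : Type u} [Field k]

/-- orthonormal bases of the plane -/
theorem ortho2 (hsq : ∀ c : k, ∃ r, r * r = c) (h2 : (2 : k) ≠ 0) {A B D : k} (hd : A * D - B * B ≠ 0) :
    ∃ α β γ δ : k, α * α * A + 2 * α * β * B + β * β * D = 1 ∧ γ * γ * A + 2 * γ * δ * B + δ * δ * D = 1 ∧
      α * γ * A + (α * δ + β * γ) * B + β * δ * D = 0 := by
  have key : ∀ A B D : k, A * D - B * B ≠ 0 → A ≠ 0 → ∃ α β γ δ : k, α * α * A + 2 * α * β * B + β * β * D = 1 ∧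
      γ * γ * A + 2 * γ * δ * B + δ * δ * D = 1 ∧ α * γ * A + (α * δ + β * γ) * B + β * δ * D = 0 := by
    intro A B D hd hA
    obtain ⟨r, hr⟩ := hsq A
    obtain ⟨s, hs⟩ := hsq ((A * D - B * B) / A)
    have hr0 : r ≠ 0 := by rintro rfl; apply hA; rw [← hr, mul_zero]
    have hs0 : s ≠ 0 := by
      rintro rfl
      rw [mul_zero, eq_comm, div_eq_zero_iff] at hs
      exact hs.elim hd hA
    have hs' : s * s * A = A * D - B * B := by rw [hs, div_mul_cancel₀ _ hA]
    refine ⟨1 / r, 0, -B / (A * s), 1 / s, ?_, ?_, ?_⟩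
    · field_simp
      linear_combination -hr
    · field_simp
      linear_combination -hs'
    · field_simp
      ring
  by_cases hA : A = 0
  · have hB : B ≠ 0 := by
      rintro rfl
      apply hd
      rw [hA]; ring
    obtain ⟨t, ht, hA'⟩ : ∃ t : k, t * t = 1 ∧ 2 * t * B + D ≠ 0 := by
      by_cases h : 2 * 1 * B + D = 0
      · refine ⟨-1, by ring, fun h' => ?_⟩
        have h4 : (2 * 2) * B = 0 := by linear_combination h - h'
        exact (mul_ne_zero (mul_ne_zero h2 h2) hB) h4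
      · exact ⟨1, by ring, h⟩
    obtain ⟨α, β, γ, δ, e1, e2, e3⟩ := key (2 * t * B + D) (B + t * D) D (fun h => by
      apply hd
      rw [hA]
      linear_combination h + D * D * ht) hA'
    subst hA
    refine ⟨α, β + t * α, γ, δ + t * γ, ?_, ?_, ?_⟩
    · linear_combination e1 + α * α * D * ht
    · linear_combination e2 + γ * γ * D * ht
    · linear_combination e3 + α * γ * D * ht
  · exact key A B D hd hA

end lin

section sys

variable {k : Type u} [Field k] {K : Type w} [Field K] {κ : K →+* k}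
variable {ρ : Representation k (SpecialLinearGroup (Fin 2) K) (I27 → k)} {x : Fin 4 → ℕ → (I27 → k)}

/-- change of the bases -/
def trX (x : Fin 4 → ℕ → (I27 → k)) (c d α β γ δ : k) : Fin 4 → ℕ → (I27 → k) :=
  ![fun a => c • x 0 a, fun a => d • x 1 a, fun a => α • x 2 a + β • x 3 a, fun a => γ • x 2 a + δ • x 3 a]

theorem Sys.trS (S : Sys κ ρ x) {c d α β γ δ : k} (hc : c ≠ 0) (hd : d ≠ 0) (hΔ : α * δ - β * γ ≠ 0) :
    Sys κ ρ (trX x c d α β γ δ) where
  str := fun X => by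
    fin_cases X
    · exact str_smul (S.str 0) c
    · exact str_smul (S.str 1) d
    · exact str_add (str_smul (S.str 2) α) (str_smul (S.str 3) β)
    · exact str_add (str_smul (S.str 2) γ) (str_smul (S.str 3) δ)
  tr := fun X a ha => by
    fin_cases X
    · change tr1 (c • x 0 a) = 0
      rw [tr1_smul, S.tr 0 a ha, mul_zero]
    · change tr1 (d • x 1 a) = 0
      rw [tr1_smul, S.tr 1 a ha, mul_zero]
    · change tr1 (α • x 2 a + β • x 3 a) = 0
      rw [tr1_add, tr1_smul, tr1_smul, S.tr 2 a ha, S.tr 3 a ha, mul_zero, mul_zero, add_zero]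
    · change tr1 (γ • x 2 a + δ • x 3 a) = 0
      rw [tr1_add, tr1_smul, tr1_smul, S.tr 2 a ha, S.tr 3 a ha, mul_zero, mul_zero, add_zero]
  span := fun v hv => by
    refine Submodule.span_le.2 ?_ (S.span v hv)
    rintro w ⟨X, a, ha, rfl⟩
    set Z := Submodule.span k {w | ∃ X a, a ≤ sz X ∧ w = trX x c d α β γ δ X a} with hZ
    change x X a ∈ Z
    fin_cases X
    · have h1 : c • x 0 a ∈ Z := Submodule.subset_span ⟨0, a, ha, rfl⟩
      have h2 := Z.smul_mem c⁻¹ h1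
      rwa [smul_smul, inv_mul_cancel₀ hc, one_smul] at h2
    · have h1 : d • x 1 a ∈ Z := Submodule.subset_span ⟨1, a, ha, rfl⟩
      have h2 := Z.smul_mem d⁻¹ h1
      rwa [smul_smul, inv_mul_cancel₀ hd, one_smul] at h2
    · have h1 : α • x 2 a + β • x 3 a ∈ Z := Submodule.subset_span ⟨2, a, ha, rfl⟩
      have h1' : γ • x 2 a + δ • x 3 a ∈ Z := Submodule.subset_span ⟨3, a, ha, rfl⟩
      have h2 := Z.smul_mem (α * δ - β * γ)⁻¹ (Z.sub_mem (Z.smul_mem δ h1) (Z.smul_mem β h1'))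
      have h3 : δ • (α • x 2 a + β • x 3 a) - β • (γ • x 2 a + δ • x 3 a) = (α * δ - β * γ) • x 2 a := by module
      rwa [h3, smul_smul, inv_mul_cancel₀ hΔ, one_smul] at h2
    · have h1 : α • x 2 a + β • x 3 a ∈ Z := Submodule.subset_span ⟨2, a, ha, rfl⟩
      have h1' : γ • x 2 a + δ • x 3 a ∈ Z := Submodule.subset_span ⟨3, a, ha, rfl⟩
      have h2 := Z.smul_mem (α * δ - β * γ)⁻¹ (Z.sub_mem (Z.smul_mem α h1') (Z.smul_mem γ h1))
      have h3 : α • (γ • x 2 a + δ • x 3 a) - γ • (α • x 2 a + β • x 3 a) = (α * δ - β * γ) • x 3 a := by module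
      rwa [h3, smul_smul, inv_mul_cancel₀ hΔ, one_smul] at h2

/-- the 26 vectors are linearly independent -/
theorem Sys.li (S : Sys κ ρ x) :
    LinearIndependent k (fun i : (X : Fin 4) × Fin (sz X + 1) => x i.1 i.2) := by
  classical
  let v : ((X : Fin 4) × Fin (sz X + 1)) → ↥(W0 k) := fun i =>
    ⟨x i.1 i.2, (mem_W0 _).2 (S.tr i.1 i.2 (by have := i.2.2; omega))⟩
  have h1 : LinearIndependent k v := by
    refine linearIndependent_of_top_le_span_of_card_eq_finrank ?_ ?_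
    · intro y _
      have h2 := S.span (y : I27 → k) ((mem_W0 _).1 y.2)
      have h3 : ((Submodule.span k (Set.range v)).map (W0 k).subtype) =
          Submodule.span k {w | ∃ X a, a ≤ sz X ∧ w = x X a} := by
        rw [Submodule.map_span]
        congr 1
        ext w
        constructor
        · rintro ⟨_, ⟨i, rfl⟩, rfl⟩
          exact ⟨i.1, i.2, by have := i.2.2; omega, rfl⟩
        · rintro ⟨X, a, ha, rfl⟩
          exact ⟨_, ⟨⟨X, ⟨a, by omega⟩⟩, rfl⟩, rfl⟩
      rw [← h3] at h2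
      obtain ⟨z, hz, hzy⟩ := h2
      have h4 : z = y := Subtype.ext hzy
      rwa [← h4]
    · rw [finrank_W0, Fintype.card_sigma]
      decide
  exact h1.map' (W0 k).subtype (LinearMap.ker_eq_bot.2 Subtype.val_injective)

theorem Sys.ne (S : Sys κ ρ x) (X : Fin 4) {a : ℕ} (ha : a ≤ sz X) : x X a ≠ 0 :=
  S.li.ne_zero ⟨X, ⟨a, by omega⟩⟩

theorem Sys.li2 (S : Sys κ ρ x) {α β : k} (h : α • x 2 0 + β • x 3 0 = 0) : α = 0 ∧ β = 0 := by
  have h1 : LinearIndependent k ![x 2 0, x 3 0] := by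
    have h2 := S.li.comp (fun j : Fin 2 => (![⟨2, ⟨0, by decide⟩⟩, ⟨3, ⟨0, by decide⟩⟩] :
      Fin 2 → (X : Fin 4) × Fin (sz X + 1)) j) (by
        intro i j h
        fin_cases i <;> fin_cases j <;> first | rfl | (exfalso; simp at h))
    convert h2 using 1
    funext j
    fin_cases j <;> rfl
  have h3 := LinearIndependent.pair_iff.1 h1 α β h
  exact h3

/-- nondegeneracy -/
theorem Sys.nd (S : Sys κ ρ x) (h3 : (3 : k) ≠ 0) {y : I27 → k} (hy : tr1 y = 0)
    (h : ∀ X, ∀ a ≤ sz X, tf y (x X a) = 0) : y = 0 := by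
  refine tf_nondeg fun z => ?_
  have h2 : tr1 (z - (tr1 z / 3) • u0 k) = 0 := by
    rw [tr1_sub, tr1_smul, tr1_u0]
    field_simp
    ring
  have h4 : tf y (z - (tr1 z / 3) • u0 k) = 0 := by
    have h5 := S.span _ h2
    generalize z - (tr1 z / 3) • u0 k = z' at h5
    clear h2
    induction h5 using Submodule.span_induction with
    | mem w hw =>
      obtain ⟨X, a, ha, rfl⟩ := hw
      exact h X a ha
    | zero => rw [← tfL_apply, map_zero]
    | add w w' _ _ ih ih' => rw [tf_add_right, ih, ih', add_zero]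
    | smul r w _ ih => rw [tf_smul_right, ih, mul_zero]
  have h5 : z = (z - (tr1 z / 3) • u0 k) + (tr1 z / 3) • u0 k := by abel
  rw [h5, tf_add_right, h4, tf_smul_right, tf_u0_right, hy, mul_zero, add_zero]

variable [Fintype K] {p : ℕ} [Fact p.Prime] [CharP k p]

/-- an orthonormal system -/
theorem Sys.exists_norm (S : Sys κ ρ x) (H : Act ρ) (hp : 11 ≤ p) (hpK : p ≤ Fintype.card K)
    (hsq : ∀ c : k, ∃ r, r * r = c) :
    ∃ x' : Fin 4 → ℕ → (I27 → k), Sys κ ρ x' ∧ (∀ X, tf (x' X 0) (x' X (sz X)) = 1) ∧ tf (x' 2 0) (x' 3 4) = 0 := by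
  have hnat : ∀ n : ℕ, 0 < n → n ≤ 8 → (n : k) ≠ 0 := by
    intro n h0 h1 h
    rw [CharP.cast_eq_zero_iff k p] at h
    have := Nat.le_of_dvd h0 h
    omega
  have h2 : (2 : k) ≠ 0 := by exact_mod_cast hnat 2 (by norm_num) (by norm_num)
  have h3 : (3 : k) ≠ 0 := by exact_mod_cast hnat 3 (by norm_num) (by norm_num)
  have hszp : ∀ X, sz X < p := fun X => by have := sz_le X; omega
  have hz : ∀ X Y : Fin 4, ∀ c ≤ sz Y, (sz X ≠ sz Y ∨ c ≠ sz Y) → tf (x X 0) (x Y c) = 0 := fun X Y c hc h =>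
    tf_str_zero hpK H h3 (S.str X) (S.str Y) (hszp X) (hszp Y) hc h
  have g0 : tf (x 0 0) (x 0 8) ≠ 0 := by
    intro h
    refine S.ne 0 (Nat.zero_le _) (S.nd h3 (S.tr 0 0 (Nat.zero_le _)) fun Y c hc => ?_)
    by_cases hY : Y = 0 ∧ c = 8
    · rw [hY.1, hY.2, h]
    · refine hz 0 Y c hc ?_
      by_cases h1 : Y = 0
      · right
        subst h1
        exact fun h2 => hY ⟨rfl, h2⟩
      · left
        revert h1
        clear hY hc
        revert Y
        decide
  have g1 : tf (x 1 0) (x 1 6) ≠ 0 := by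
    intro h
    refine S.ne 1 (Nat.zero_le _) (S.nd h3 (S.tr 1 0 (Nat.zero_le _)) fun Y c hc => ?_)
    by_cases hY : Y = 1 ∧ c = 6
    · rw [hY.1, hY.2, h]
    · refine hz 1 Y c hc ?_
      by_cases h1 : Y = 1
      · right
        subst h1
        exact fun h2 => hY ⟨rfl, h2⟩
      · left
        revert h1
        clear hY hc
        revert Y
        decide
  have gsym : tf (x 3 0) (x 2 4) = tf (x 2 0) (x 3 4) := by
    have h5 := tf_str_val hpK H h3 (S.str 2) (S.str 3) (hszp 2) (hszp 3) (a := 4) (c := 0) (by decide) (by decide)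
    rw [if_pos ⟨by decide, by decide⟩] at h5
    have h6 : (sz 2).choose 4 = 1 := by decide
    have h7 : sz 3 = 4 := by decide
    rw [h6, Nat.cast_one, one_mul, h7] at h5
    rw [tf_comm, h5]
    norm_num
  have gpl : ∀ α β : k, α * tf (x 2 0) (x 2 4) + β * tf (x 3 0) (x 2 4) = 0 →
      α * tf (x 2 0) (x 3 4) + β * tf (x 3 0) (x 3 4) = 0 → α = 0 ∧ β = 0 := by
    intro α β e1 e2
    refine S.li2 (S.nd h3 (by rw [tr1_add, tr1_smul, tr1_smul, S.tr 2 0 (Nat.zero_le _), S.tr 3 0 (Nat.zero_le _)]; ring)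
      fun Y c hc => ?_)
    rw [tf_add_left, tf_smul_left, tf_smul_left]
    by_cases hY : Y = 2 ∧ c = 4
    · rw [hY.1, hY.2, e1]
    · by_cases hY' : Y = 3 ∧ c = 4
      · rw [hY'.1, hY'.2, e2]
      · have h5 : sz 2 ≠ sz Y ∨ c ≠ sz Y := by
          by_cases h1 : Y = 2
          · right
            subst h1
            exact fun h2 => hY ⟨rfl, h2⟩
          · by_cases h1' : Y = 3
            · right
              subst h1'
              exact fun h2 => hY' ⟨rfl, h2⟩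
            · left
              revert h1 h1'
              clear hY hY' hc
              revert Y
              decide
        rw [hz 2 Y c hc h5, hz 3 Y c hc h5]
        ring
  rw [gsym] at gpl
  have gd : tf (x 2 0) (x 2 4) * tf (x 3 0) (x 3 4) - tf (x 2 0) (x 3 4) * tf (x 2 0) (x 3 4) ≠ 0 := by
    intro h
    have h4 := gpl (tf (x 3 0) (x 3 4)) (- tf (x 2 0) (x 3 4)) (by linear_combination h) (by ring)
    have h5 := gpl (tf (x 2 0) (x 3 4)) (- tf (x 2 0) (x 2 4)) (by ring) (by linear_combination -h)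
    have h6 := gpl 1 0 (by linear_combination -h5.2) (by linear_combination h5.1)
    exact one_ne_zero h6.1
  obtain ⟨α, β, γ, δ, e1, e2, e3⟩ := ortho2 hsq h2 gd
  obtain ⟨c, hc⟩ := hsq (tf (x 0 0) (x 0 8))⁻¹
  obtain ⟨d, hd⟩ := hsq (tf (x 1 0) (x 1 6))⁻¹
  have hc0 : c ≠ 0 := by
    rintro rfl
    rw [mul_zero] at hc
    exact inv_ne_zero g0 hc.symm
  have hd0 : d ≠ 0 := by
    rintro rfl
    rw [mul_zero] at hd
    exact inv_ne_zero g1 hd.symm
  have hΔ : α * δ - β * γ ≠ 0 := by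
    intro h
    have h4 : (α * δ - β * γ) * (α * δ - β * γ) * (tf (x 2 0) (x 2 4) * tf (x 3 0) (x 3 4) -
        tf (x 2 0) (x 3 4) * tf (x 2 0) (x 3 4)) = 1 := by
      linear_combination (γ * γ * tf (x 2 0) (x 2 4) + 2 * γ * δ * tf (x 2 0) (x 3 4) + δ * δ * tf (x 3 0) (x 3 4)) * e1 +
        e2 - (α * γ * tf (x 2 0) (x 2 4) + (α * δ + β * γ) * tf (x 2 0) (x 3 4) + β * δ * tf (x 3 0) (x 3 4)) * e3
    rw [h] at h4
    simp at h4
  refine ⟨trX x c d α β γ δ, S.trS hc0 hd0 hΔ, ?_, ?_⟩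
  · intro X
    fin_cases X
    · change tf (c • x 0 0) (c • x 0 8) = 1
      rw [tf_smul_left, tf_smul_right, ← mul_assoc, hc, inv_mul_cancel₀ g0]
    · change tf (d • x 1 0) (d • x 1 6) = 1
      rw [tf_smul_left, tf_smul_right, ← mul_assoc, hd, inv_mul_cancel₀ g1]
    · change tf (α • x 2 0 + β • x 3 0) (α • x 2 4 + β • x 3 4) = 1
      rw [tf_add_left, tf_add_right, tf_add_right]
      simp only [tf_smul_left, tf_smul_right]
      rw [gsym]
      linear_combination e1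
    · change tf (γ • x 2 0 + δ • x 3 0) (γ • x 2 4 + δ • x 3 4) = 1
      rw [tf_add_left, tf_add_right, tf_add_right]
      simp only [tf_smul_left, tf_smul_right]
      rw [gsym]
      linear_combination e2
  · change tf (α • x 2 0 + β • x 3 0) (γ • x 2 4 + δ • x 3 4) = 0
    rw [tf_add_left, tf_add_right, tf_add_right]
    simp only [tf_smul_left, tf_smul_right]
    rw [gsym]
    linear_combination e3

/-- an orthonormal system with `κ 0 1 2 = 0` -/
theorem Sys.exists_norm' (S : Sys κ ρ x) (H : Act ρ) (hp : 11 ≤ p) (hpK : p ≤ Fintype.card K)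
    (hsq : ∀ c : k, ∃ r, r * r = c) :
    ∃ (x' : Fin 4 → ℕ → (I27 → k)) (κ₀ : Fin 4 → Fin 4 → Fin 4 → k), Sys κ ρ x' ∧
      Alpha (fun X a => ((sz X).choose a : k) • x' X a) κ₀ ∧ κ₀ 0 1 2 = 0 ∧
      (∀ i ≤ 8, ∀ j ≤ 6, ∀ c ≤ 4, tf (st (x' 0 i) (x' 1 j)) (x' 2 c) = 0) := by
  have hnat : ∀ n : ℕ, 0 < n → n ≤ 8 → (n : k) ≠ 0 := by
    intro n h0 h1 h
    rw [CharP.cast_eq_zero_iff k p] at h
    have := Nat.le_of_dvd h0 h
    omega
  have h2 : (2 : k) ≠ 0 := by exact_mod_cast hnat 2 (by norm_num) (by norm_num)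
  have h3 : (3 : k) ≠ 0 := by exact_mod_cast hnat 3 (by norm_num) (by norm_num)
  have hszp : ∀ X, sz X < p := fun X => by have := sz_le X; omega
  obtain ⟨y, Sy, one, orth⟩ := S.exists_norm H hp hpK hsq
  obtain ⟨κ₁, A₁⟩ := Sy.alpha H hp hpK one orth
  have hc1 := A₁.c1 h2 h3 hnat
  obtain ⟨s, hs⟩ := hsq (κ₁ 0 1 2 * κ₁ 0 1 2 + κ₁ 0 1 3 * κ₁ 0 1 3)
  have hs0 : s ≠ 0 := by
    rintro rfl
    rw [mul_zero] at hs
    exact hc1 hs.symm
  have gsym : tf (y 3 0) (y 2 4) = 0 := by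
    have h5 := tf_str_val hpK H h3 (Sy.str 2) (Sy.str 3) (hszp 2) (hszp 3) (a := 4) (c := 0) (by decide) (by decide)
    rw [if_pos ⟨by decide, by decide⟩] at h5
    have h6 : (sz 2).choose 4 = 1 := by decide
    have h7 : sz 3 = 4 := by decide
    rw [h6, Nat.cast_one, one_mul, h7, orth, mul_zero] at h5
    rw [tf_comm, h5]
  have o2 : tf (y 2 0) (y 2 4) = 1 := one 2
  have o3 : tf (y 3 0) (y 3 4) = 1 := one 3
  obtain ⟨α, hα⟩ : ∃ α, α = κ₁ 0 1 3 / s := ⟨_, rfl⟩
  obtain ⟨β, hβ⟩ : ∃ β, β = -(κ₁ 0 1 2) / s := ⟨_, rfl⟩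
  obtain ⟨γ, hγ⟩ : ∃ γ, γ = κ₁ 0 1 2 / s := ⟨_, rfl⟩
  obtain ⟨δ, hδ⟩ : ∃ δ, δ = κ₁ 0 1 3 / s := ⟨_, rfl⟩
  have e1 : α * α + β * β = 1 := by
    rw [hα, hβ]; field_simp; linear_combination -hs
  have e2 : γ * γ + δ * δ = 1 := by
    rw [hγ, hδ]; field_simp; linear_combination -hs
  have e3 : α * γ + β * δ = 0 := by
    rw [hα, hβ, hγ, hδ]; field_simp; ring
  have hΔ : α * δ - β * γ ≠ 0 := by
    have : α * δ - β * γ = 1 := by
      rw [hα, hβ, hγ, hδ]; field_simp; linear_combination -hs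
    rw [this]; exact one_ne_zero
  have Sz := Sy.trS one_ne_zero one_ne_zero hΔ
  have hker : ∀ i ≤ 8, ∀ j ≤ 6, ∀ c ≤ 4, tf (st (y 0 i) (y 1 j)) (α • y 2 c + β • y 3 c) = 0 := by
    intro i hi j hj c hc
    have t2 := A₁.tab (0, i) (1, j) (2, c) (show (0 : Fin 4) ≤ 1 by decide) (show (1 : Fin 4) ≤ 2 by decide) hi hj hc
    have t3 := A₁.tab (0, i) (1, j) (3, c) (show (0 : Fin 4) ≤ 1 by decide) (show (1 : Fin 4) ≤ 3 by decide) hi hj hc
    have t23 : H1.F4.t3 (0, i) (1, j) (3, c) = H1.F4.t3 (0, i) (1, j) (2, c) := rfl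
    simp only at t2 t3
    rw [st_smul_left, st_smul_right, tf_smul_left, tf_smul_left, tf_smul_right] at t2 t3
    rw [t23] at t3
    have n1 : ((sz 0).choose i : k) ≠ 0 := R2.F4N.choose_ne (p := p) (hszp 0) hi
    have n2 : ((sz 1).choose j : k) ≠ 0 := R2.F4N.choose_ne (p := p) (hszp 1) hj
    have n3 : ((sz 2).choose c : k) ≠ 0 := R2.F4N.choose_ne (p := p) (hszp 2) hc
    have n4 : ((sz 3).choose c : k) = ((sz 2).choose c : k) := rfl
    rw [n4] at t3
    rw [tf_add_right, tf_smul_right, tf_smul_right]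
    refine (mul_eq_zero.1 (?_ : ((sz 0).choose i : k) * (((sz 1).choose j : k) * ((sz 2).choose c : k)) *
      (α * tf (st (y 0 i) (y 1 j)) (y 2 c) + β * tf (st (y 0 i) (y 1 j)) (y 3 c)) = 0)).resolve_left
      (mul_ne_zero n1 (mul_ne_zero n2 n3))
    have e4 : α * κ₁ 0 1 2 + β * κ₁ 0 1 3 = 0 := by
      rw [hα, hβ]; field_simp; ring
    linear_combination α * t2 + β * t3 + (H1.F4.t3 (0, i) (1, j) (2, c) : k) * e4
  obtain ⟨κ₂, A₂⟩ := Sz.alpha H hp hpK (by
    intro X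
    fin_cases X
    · change tf ((1 : k) • y 0 0) ((1 : k) • y 0 8) = 1
      rw [one_smul, one_smul]; exact one 0
    · change tf ((1 : k) • y 1 0) ((1 : k) • y 1 6) = 1
      rw [one_smul, one_smul]; exact one 1
    · change tf (α • y 2 0 + β • y 3 0) (α • y 2 4 + β • y 3 4) = 1
      rw [tf_add_left, tf_add_right, tf_add_right]
      simp only [tf_smul_left, tf_smul_right]
      rw [gsym, orth, o2, o3]
      linear_combination e1
    · change tf (γ • y 2 0 + δ • y 3 0) (γ • y 2 4 + δ • y 3 4) = 1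
      rw [tf_add_left, tf_add_right, tf_add_right]
      simp only [tf_smul_left, tf_smul_right]
      rw [gsym, orth, o2, o3]
      linear_combination e2) (by
    change tf (α • y 2 0 + β • y 3 0) (γ • y 2 4 + δ • y 3 4) = 0
    rw [tf_add_left, tf_add_right, tf_add_right]
    simp only [tf_smul_left, tf_smul_right]
    rw [gsym, orth, o2, o3]
    linear_combination e3)
  have hker' : ∀ i ≤ 8, ∀ j ≤ 6, ∀ c ≤ 4, tf (st (trX y 1 1 α β γ δ 0 i) (trX y 1 1 α β γ δ 1 j))
      (trX y 1 1 α β γ δ 2 c) = 0 := by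
    intro i hi j hj c hc
    change tf (st ((1 : k) • y 0 i) ((1 : k) • y 1 j)) (α • y 2 c + β • y 3 c) = 0
    rw [one_smul, one_smul]
    exact hker i hi j hj c hc
  refine ⟨_, κ₂, Sz, A₂, ?_, hker'⟩
  have t2 := A₂.tab (0, 0) (1, 6) (2, 3) (by decide) (by decide) (by decide) (by decide) (by decide)
  simp only at t2
  rw [st_smul_left, st_smul_right, tf_smul_left, tf_smul_left, tf_smul_right, hker' 0 (by norm_num) 6 (by norm_num) 3 (by norm_num)] at t2
  have t4 : H1.F4.t3 (0, 0) (1, 6) (2, 3) = 1 := by decide +kernel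
  rw [t4] at t2
  simp only [mul_zero, Int.cast_one, mul_one] at t2
  exact t2.symm

end sys

end Cfsg.Agent.R2.H1.F4
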