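import Cfsg.Agent.R2.H1.F4.Alg4

/-!
# S5931: type alpha, the equations (helper1; generated)
-/

set_option autoImplicit false
set_option linter.unusedSimpArgs false
set_option linter.unusedVariables false

namespace Cfsg.Agent.R2.H1.F4.Alpha

open Cfsg Cfsg.Lie Module Cfsg.Agent.H952.F4 Cfsg.Agent.H952.F4.Jord
open Cfsg.Agent.ChevalleyStructure.E6Min.Tables Cfsg.Agent.ChevalleyStructure.E6Min.Basic

universe u

variable {k : Type u} [Field k]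

/-- the antisymmetric types vanish -/
def Dead (κ : Fin 4 → Fin 4 → Fin 4 → k) : Prop := κ 0 0 1 = 0 ∧ κ 1 1 1 = 0 ∧ κ 1 2 2 = 0 ∧ κ 1 3 3 = 0

theorem nz_of (l : List ℕ) (hp : ∀ n : ℕ, 0 < n → n ≤ 8 → (n : k) ≠ 0) (hl : ∀ n ∈ l, 0 < n ∧ n ≤ 8) :
    ((l.prod : ℕ) : k) ≠ 0 := by
  induction l with
  | nil => simp
  | cons a l ih =>
    rw [List.prod_cons, Nat.cast_mul]
    exact mul_ne_zero (hp a (hl a (by simp)).1 (hl a (by simp)).2) (ih fun n hn => hl n (by simp [hn]))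

theorem dead {e : Fin 4 → ℕ → (I27 → k)} {κ : Fin 4 → Fin 4 → Fin 4 → k} (H : Alpha e κ) (h2 : (2 : k) ≠ 0) : Dead κ := by
  have key : ∀ (X Y Z : Fin 4) (a b c : ℕ), X ≤ Y → Y ≤ Z → a ≤ sz X → b ≤ sz Y → c ≤ sz Z → X = Y → b ≤ sz X → a ≤ sz Y →
      t3 (X, b) (Y, a) (Z, c) = - t3 (X, a) (Y, b) (Z, c) → t3 (X, a) (Y, b) (Z, c) = 1 ∨ t3 (X, a) (Y, b) (Z, c) = -1 →
      κ X Y Z = 0 := by
    rintro X Y Z a b c hXY hYZ ha hb hc rfl hb' ha' ht h1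
    have e1 := H.tab (X, a) (X, b) (Z, c) hXY hYZ ha hb hc
    have e2 := H.tab (X, b) (X, a) (Z, c) hXY hYZ hb ha hc
    simp only at e1 e2
    rw [st_comm, e1, ht] at e2
    push_cast at e2
    have h3 : 2 * (κ X X Z * (t3 (X, a) (X, b) (Z, c) : k)) = 0 := by linear_combination e2
    have h4 := (mul_eq_zero.1 h3).resolve_left h2
    rcases h1 with h1 | h1 <;> rw [h1] at h4 <;> simpa using h4
  have key' : ∀ (X Y Z : Fin 4) (a b c : ℕ), X ≤ Y → Y ≤ Z → a ≤ sz X → b ≤ sz Y → c ≤ sz Z → Y = Z → b ≤ sz Z → c ≤ sz Y →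
      t3 (X, a) (Y, c) (Z, b) = - t3 (X, a) (Y, b) (Z, c) → t3 (X, a) (Y, b) (Z, c) = 1 ∨ t3 (X, a) (Y, b) (Z, c) = -1 →
      κ X Y Z = 0 := by
    rintro X Y Z a b c hXY hYZ ha hb hc rfl hb' hc' ht h1
    have e1 := H.tab (X, a) (Y, b) (Y, c) hXY hYZ ha hb hc
    have e2 := H.tab (X, a) (Y, c) (Y, b) hXY hYZ ha hc hb
    simp only at e1 e2
    have e3 : tf (st (e X a) (e Y b)) (e Y c) = tf (st (e X a) (e Y c)) (e Y b) := by
      rw [st_comm (e X a) (e Y b), tf_st_rot (H.tr _ _) (H.tr _ _), tf_comm]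
    rw [← e3, e1, ht] at e2
    push_cast at e2
    have h3 : 2 * (κ X Y Y * (t3 (X, a) (Y, b) (Y, c) : k)) = 0 := by linear_combination e2
    have h4 := (mul_eq_zero.1 h3).resolve_left h2
    rcases h1 with h1 | h1 <;> rw [h1] at h4 <;> simpa using h4
  exact ⟨key 0 0 1 0 5 6 (by decide) (by decide) (by decide) (by decide) (by decide) rfl (by decide) (by decide)
      (by decide +kernel) (by decide +kernel),
    key 1 1 1 0 3 6 (by decide) (by decide) (by decide) (by decide) (by decide) rfl (by decide) (by decide)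
      (by decide +kernel) (by decide +kernel),
    key' 1 2 2 0 3 4 (by decide) (by decide) (by decide) (by decide) (by decide) rfl (by decide) (by decide)
      (by decide +kernel) (by decide +kernel),
    key' 1 3 3 0 3 4 (by decide) (by decide) (by decide) (by decide) (by decide) rfl (by decide) (by decide)
      (by decide +kernel) (by decide +kernel)⟩

variable {e : Fin 4 → ℕ → (I27 → k)} {κ : Fin 4 → Fin 4 → Fin 4 → k}

/-- `b6 b6 a-8 b-4` -/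
theorem q1 (H : Alpha e κ) (D : Dead κ) (h2 : (2 : k) ≠ 0) (h3 : (3 : k) ≠ 0) (hp : ∀ n : ℕ, 0 < n → n ≤ 8 → (n : k) ≠ 0) :
    (1) * (κ 0 1 2 * κ 1 1 2) + (1) * (κ 0 1 3 * κ 1 1 3) = (0 : k) := by
  have h := H.e4int h2 h3 hp (x := (1, 6)) (y := (1, 6)) (z := (0, 0)) (w := (1, 1)) (by decide) (by decide) (by decide)
    (by decide)
  simp only [Fin.sum_univ_four] at h
  simp only [show co (1, 6) (1, 6) (0, 0) (1, 1) 0 = 0 by decide +kernel,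
    show co (1, 6) (1, 6) (0, 0) (1, 1) 1 = 0 by decide +kernel,
    show co (1, 6) (1, 6) (0, 0) (1, 1) 2 = 0 by decide +kernel,
    show co (1, 6) (1, 6) (0, 0) (1, 1) 3 = 0 by decide +kernel,
    show co (1, 6) (0, 0) (1, 6) (1, 1) 0 = -60 by decide +kernel,
    show co (1, 6) (0, 0) (1, 6) (1, 1) 1 = 168 by decide +kernel,
    show co (1, 6) (0, 0) (1, 6) (1, 1) 2 = 420 by decide +kernel,
    show co (1, 6) (0, 0) (1, 6) (1, 1) 3 = 420 by decide +kernel,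
    show co (1, 6) (1, 1) (1, 6) (0, 0) 0 = -60 by decide +kernel,
    show co (1, 6) (1, 1) (1, 6) (0, 0) 1 = 168 by decide +kernel,
    show co (1, 6) (1, 1) (1, 6) (0, 0) 2 = 420 by decide +kernel,
    show co (1, 6) (1, 1) (1, 6) (0, 0) 3 = 420 by decide +kernel] at h
  rw [show tI (1, 6) (1, 6) * tI (0, 0) (1, 1) + tI (1, 6) (0, 0) * tI (1, 6) (1, 1) + tI (1, 6) (1, 1) * tI (1, 6) (0, 0) = 0 by decide +kernel] at h
  simp only [show kS κ 0 1 0 = κ 0 0 1 from rfl, show kS κ 0 1 1 = κ 0 1 1 from rfl, show kS κ 0 1 2 = κ 0 1 2 from rfl, show kS κ 0 1 3 = κ 0 1 3 from rfl, show kS κ 1 0 0 = κ 0 0 1 from rfl, show kS κ 1 0 1 = κ 0 1 1 from rfl, show kS κ 1 0 2 = κ 0 1 2 from rfl, show kS κ 1 0 3 = κ 0 1 3 from rfl, show kS κ 1 1 0 = κ 0 1 1 from rfl, show kS κ 1 1 1 = κ 1 1 1 from rfl, show kS κ 1 1 2 = κ 1 1 2 from rfl, show kS κ 1 1 3 = κ 1 1 3 from rfl,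
    D.1, D.2.1, D.2.2.1, D.2.2.2] at h
  push_cast at h
  have hg : (840 : k) ≠ 0 := by
    have := nz_of [2, 2, 2, 3, 5, 7] hp (by decide) 
    simpa using this
  apply mul_left_cancel₀ hg
  linear_combination h

/-- `b6 b6 a-8 a-4` -/
theorem q2 (H : Alpha e κ) (D : Dead κ) (h2 : (2 : k) ≠ 0) (h3 : (3 : k) ≠ 0) (hp : ∀ n : ℕ, 0 < n → n ≤ 8 → (n : k) ≠ 0) :
    (8) * (κ 0 1 1 * κ 0 1 1) + (-15) * (κ 0 1 2 * κ 0 1 2) + (-15) * (κ 0 1 3 * κ 0 1 3) = (0 : k) := by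
  have h := H.e4int h2 h3 hp (x := (1, 6)) (y := (1, 6)) (z := (0, 0)) (w := (0, 2)) (by decide) (by decide) (by decide)
    (by decide)
  simp only [Fin.sum_univ_four] at h
  simp only [show co (1, 6) (1, 6) (0, 0) (0, 2) 0 = 0 by decide +kernel,
    show co (1, 6) (1, 6) (0, 0) (0, 2) 1 = 0 by decide +kernel,
    show co (1, 6) (1, 6) (0, 0) (0, 2) 2 = 0 by decide +kernel,
    show co (1, 6) (1, 6) (0, 0) (0, 2) 3 = 0 by decide +kernel,
    show co (1, 6) (0, 0) (1, 6) (0, 2) 0 = -150 by decide +kernel,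
    show co (1, 6) (0, 0) (1, 6) (0, 2) 1 = 336 by decide +kernel,
    show co (1, 6) (0, 0) (1, 6) (0, 2) 2 = -630 by decide +kernel,
    show co (1, 6) (0, 0) (1, 6) (0, 2) 3 = -630 by decide +kernel,
    show co (1, 6) (0, 2) (1, 6) (0, 0) 0 = -150 by decide +kernel,
    show co (1, 6) (0, 2) (1, 6) (0, 0) 1 = 336 by decide +kernel,
    show co (1, 6) (0, 2) (1, 6) (0, 0) 2 = -630 by decide +kernel,
    show co (1, 6) (0, 2) (1, 6) (0, 0) 3 = -630 by decide +kernel] at h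
  rw [show tI (1, 6) (1, 6) * tI (0, 0) (0, 2) + tI (1, 6) (0, 0) * tI (1, 6) (0, 2) + tI (1, 6) (0, 2) * tI (1, 6) (0, 0) = 0 by decide +kernel] at h
  simp only [show kS κ 0 0 0 = κ 0 0 0 from rfl, show kS κ 0 0 1 = κ 0 0 1 from rfl, show kS κ 0 0 2 = κ 0 0 2 from rfl, show kS κ 0 0 3 = κ 0 0 3 from rfl, show kS κ 1 0 0 = κ 0 0 1 from rfl, show kS κ 1 0 1 = κ 0 1 1 from rfl, show kS κ 1 0 2 = κ 0 1 2 from rfl, show kS κ 1 0 3 = κ 0 1 3 from rfl, show kS κ 1 1 0 = κ 0 1 1 from rfl, show kS κ 1 1 1 = κ 1 1 1 from rfl, show kS κ 1 1 2 = κ 1 1 2 from rfl, show kS κ 1 1 3 = κ 1 1 3 from rfl,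
    D.1, D.2.1, D.2.2.1, D.2.2.2] at h
  push_cast at h
  have hg : (84 : k) ≠ 0 := by
    have := nz_of [2, 2, 3, 7] hp (by decide) 
    simpa using this
  apply mul_left_cancel₀ hg
  linear_combination h

/-- `a8 a8 a-8 a-8` -/
theorem q3 (H : Alpha e κ) (D : Dead κ) (h2 : (2 : k) ≠ 0) (h3 : (3 : k) ≠ 0) (hp : ∀ n : ℕ, 0 < n → n ≤ 8 → (n : k) ≠ 0) :
    (3) * (κ 0 0 0 * κ 0 0 0) + (35) * (κ 0 0 2 * κ 0 0 2) + (35) * (κ 0 0 3 * κ 0 0 3) = (140 : k) := by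
  have h := H.e4int h2 h3 hp (x := (0, 8)) (y := (0, 8)) (z := (0, 0)) (w := (0, 0)) (by decide) (by decide) (by decide)
    (by decide)
  simp only [Fin.sum_univ_four] at h
  simp only [show co (0, 8) (0, 8) (0, 0) (0, 0) 0 = 0 by decide +kernel,
    show co (0, 8) (0, 8) (0, 0) (0, 0) 1 = 0 by decide +kernel,
    show co (0, 8) (0, 8) (0, 0) (0, 0) 2 = 0 by decide +kernel,
    show co (0, 8) (0, 8) (0, 0) (0, 0) 3 = 0 by decide +kernel,
    show co (0, 8) (0, 0) (0, 8) (0, 0) 0 = 12 by decide +kernel,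
    show co (0, 8) (0, 0) (0, 8) (0, 0) 1 = -42 by decide +kernel,
    show co (0, 8) (0, 0) (0, 8) (0, 0) 2 = 140 by decide +kernel,
    show co (0, 8) (0, 0) (0, 8) (0, 0) 3 = 140 by decide +kernel] at h
  rw [show tI (0, 8) (0, 8) * tI (0, 0) (0, 0) + tI (0, 8) (0, 0) * tI (0, 8) (0, 0) + tI (0, 8) (0, 0) * tI (0, 8) (0, 0) = 2 by decide +kernel] at h
  simp only [show kS κ 0 0 0 = κ 0 0 0 from rfl, show kS κ 0 0 1 = κ 0 0 1 from rfl, show kS κ 0 0 2 = κ 0 0 2 from rfl, show kS κ 0 0 3 = κ 0 0 3 from rfl,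
    D.1, D.2.1, D.2.2.1, D.2.2.2] at h
  push_cast at h
  have hg : (8 : k) ≠ 0 := by
    have := nz_of [2, 2, 2] hp (by decide) 
    simpa using this
  apply mul_left_cancel₀ hg
  linear_combination h

/-- `b6 b6 b-6 b-6` -/
theorem q4 (H : Alpha e κ) (D : Dead κ) (h2 : (2 : k) ≠ 0) (h3 : (3 : k) ≠ 0) (hp : ∀ n : ℕ, 0 < n → n ≤ 8 → (n : k) ≠ 0) :
    (3) * (κ 0 1 1 * κ 0 1 1) + (35) * (κ 1 1 2 * κ 1 1 2) + (35) * (κ 1 1 3 * κ 1 1 3) = (140 : k) := by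
  have h := H.e4int h2 h3 hp (x := (1, 6)) (y := (1, 6)) (z := (1, 0)) (w := (1, 0)) (by decide) (by decide) (by decide)
    (by decide)
  simp only [Fin.sum_univ_four] at h
  simp only [show co (1, 6) (1, 6) (1, 0) (1, 0) 0 = 0 by decide +kernel,
    show co (1, 6) (1, 6) (1, 0) (1, 0) 1 = 0 by decide +kernel,
    show co (1, 6) (1, 6) (1, 0) (1, 0) 2 = 0 by decide +kernel,
    show co (1, 6) (1, 6) (1, 0) (1, 0) 3 = 0 by decide +kernel,
    show co (1, 6) (1, 0) (1, 6) (1, 0) 0 = 12 by decide +kernel,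
    show co (1, 6) (1, 0) (1, 6) (1, 0) 1 = -42 by decide +kernel,
    show co (1, 6) (1, 0) (1, 6) (1, 0) 2 = 140 by decide +kernel,
    show co (1, 6) (1, 0) (1, 6) (1, 0) 3 = 140 by decide +kernel] at h
  rw [show tI (1, 6) (1, 6) * tI (1, 0) (1, 0) + tI (1, 6) (1, 0) * tI (1, 6) (1, 0) + tI (1, 6) (1, 0) * tI (1, 6) (1, 0) = 2 by decide +kernel] at h
  simp only [show kS κ 1 1 0 = κ 0 1 1 from rfl, show kS κ 1 1 1 = κ 1 1 1 from rfl, show kS κ 1 1 2 = κ 1 1 2 from rfl, show kS κ 1 1 3 = κ 1 1 3 from rfl,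
    D.1, D.2.1, D.2.2.1, D.2.2.2] at h
  push_cast at h
  have hg : (8 : k) ≠ 0 := by
    have := nz_of [2, 2, 2] hp (by decide) 
    simpa using this
  apply mul_left_cancel₀ hg
  linear_combination h

/-- `a8 m4 b-6 b-6` -/
theorem q5 (H : Alpha e κ) (D : Dead κ) (h2 : (2 : k) ≠ 0) (h3 : (3 : k) ≠ 0) (hp : ∀ n : ℕ, 0 < n → n ≤ 8 → (n : k) ≠ 0) :
    (4) * (κ 0 1 1 * κ 1 1 2) + (15) * (κ 0 1 3 * κ 1 2 3) = (0 : k) := by
  have h := H.e4int h2 h3 hp (x := (0, 8)) (y := (2, 4)) (z := (1, 0)) (w := (1, 0)) (by decide) (by decide) (by decide)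
    (by decide)
  simp only [Fin.sum_univ_four] at h
  simp only [show co (0, 8) (2, 4) (1, 0) (1, 0) 0 = 0 by decide +kernel,
    show co (0, 8) (2, 4) (1, 0) (1, 0) 1 = 0 by decide +kernel,
    show co (0, 8) (2, 4) (1, 0) (1, 0) 2 = 0 by decide +kernel,
    show co (0, 8) (2, 4) (1, 0) (1, 0) 3 = 0 by decide +kernel,
    show co (0, 8) (1, 0) (2, 4) (1, 0) 0 = -15 by decide +kernel,
    show co (0, 8) (1, 0) (2, 4) (1, 0) 1 = 56 by decide +kernel,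
    show co (0, 8) (1, 0) (2, 4) (1, 0) 2 = 210 by decide +kernel,
    show co (0, 8) (1, 0) (2, 4) (1, 0) 3 = 210 by decide +kernel] at h
  rw [show tI (0, 8) (2, 4) * tI (1, 0) (1, 0) + tI (0, 8) (1, 0) * tI (2, 4) (1, 0) + tI (0, 8) (1, 0) * tI (2, 4) (1, 0) = 0 by decide +kernel] at h
  simp only [show kS κ 0 1 0 = κ 0 0 1 from rfl, show kS κ 0 1 1 = κ 0 1 1 from rfl, show kS κ 0 1 2 = κ 0 1 2 from rfl, show kS κ 0 1 3 = κ 0 1 3 from rfl, show kS κ 0 2 0 = κ 0 0 2 from rfl, show kS κ 0 2 1 = κ 0 1 2 from rfl, show kS κ 0 2 2 = κ 0 2 2 from rfl, show kS κ 0 2 3 = κ 0 2 3 from rfl, show kS κ 1 1 0 = κ 0 1 1 from rfl, show kS κ 1 1 1 = κ 1 1 1 from rfl, show kS κ 1 1 2 = κ 1 1 2 from rfl, show kS κ 1 1 3 = κ 1 1 3 from rfl, show kS κ 2 1 0 = κ 0 1 2 from rfl, show kS κ 2 1 1 = κ 1 1 2 from rfl, show kS κ 2 1 2 = κ 1 2 2 from rfl, show kS κ 2 1 3 = κ 1 2 3 from rfl,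
    D.1, D.2.1, D.2.2.1, D.2.2.2] at h
  push_cast at h
  have hg : (28 : k) ≠ 0 := by
    have := nz_of [2, 2, 7] hp (by decide) 
    simpa using this
  apply mul_left_cancel₀ hg
  linear_combination h

/-- `a8 n4 b-6 b-6` -/
theorem q5n (H : Alpha e κ) (D : Dead κ) (h2 : (2 : k) ≠ 0) (h3 : (3 : k) ≠ 0) (hp : ∀ n : ℕ, 0 < n → n ≤ 8 → (n : k) ≠ 0) :
    (4) * (κ 0 1 1 * κ 1 1 3) + (-15) * (κ 0 1 2 * κ 1 2 3) = (0 : k) := by
  have h := H.e4int h2 h3 hp (x := (0, 8)) (y := (3, 4)) (z := (1, 0)) (w := (1, 0)) (by decide) (by decide) (by decide)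
    (by decide)
  simp only [Fin.sum_univ_four] at h
  simp only [show co (0, 8) (3, 4) (1, 0) (1, 0) 0 = 0 by decide +kernel,
    show co (0, 8) (3, 4) (1, 0) (1, 0) 1 = 0 by decide +kernel,
    show co (0, 8) (3, 4) (1, 0) (1, 0) 2 = 0 by decide +kernel,
    show co (0, 8) (3, 4) (1, 0) (1, 0) 3 = 0 by decide +kernel,
    show co (0, 8) (1, 0) (3, 4) (1, 0) 0 = -15 by decide +kernel,
    show co (0, 8) (1, 0) (3, 4) (1, 0) 1 = 56 by decide +kernel,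
    show co (0, 8) (1, 0) (3, 4) (1, 0) 2 = -210 by decide +kernel,
    show co (0, 8) (1, 0) (3, 4) (1, 0) 3 = 210 by decide +kernel] at h
  rw [show tI (0, 8) (3, 4) * tI (1, 0) (1, 0) + tI (0, 8) (1, 0) * tI (3, 4) (1, 0) + tI (0, 8) (1, 0) * tI (3, 4) (1, 0) = 0 by decide +kernel] at h
  simp only [show kS κ 0 1 0 = κ 0 0 1 from rfl, show kS κ 0 1 1 = κ 0 1 1 from rfl, show kS κ 0 1 2 = κ 0 1 2 from rfl, show kS κ 0 1 3 = κ 0 1 3 from rfl, show kS κ 0 3 0 = κ 0 0 3 from rfl, show kS κ 0 3 1 = κ 0 1 3 from rfl, show kS κ 0 3 2 = κ 0 2 3 from rfl, show kS κ 0 3 3 = κ 0 3 3 from rfl, show kS κ 1 1 0 = κ 0 1 1 from rfl, show kS κ 1 1 1 = κ 1 1 1 from rfl, show kS κ 1 1 2 = κ 1 1 2 from rfl, show kS κ 1 1 3 = κ 1 1 3 from rfl, show kS κ 3 1 0 = κ 0 1 3 from rfl, show kS κ 3 1 1 = κ 1 1 3 from rfl, show kS κ 3 1 2 = κ 1 2 3 from rfl, show kS κ 3 1 3 = κ 1 3 3 from rfl,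
    D.1, D.2.1, D.2.2.1, D.2.2.2] at h
  push_cast at h
  have hg : (28 : k) ≠ 0 := by
    have := nz_of [2, 2, 7] hp (by decide) 
    simpa using this
  apply mul_left_cancel₀ hg
  linear_combination h

/-- `m4 m4 b-6 m-2` -/
theorem q6 (H : Alpha e κ) (D : Dead κ) (h2 : (2 : k) ≠ 0) (h3 : (3 : k) ≠ 0) (hp : ∀ n : ℕ, 0 < n → n ≤ 8 → (n : k) ≠ 0) :
    (-6) * (κ 0 1 2 * κ 0 2 2) + (7) * (κ 1 2 3 * κ 2 2 3) = (0 : k) := by
  have h := H.e4int h2 h3 hp (x := (2, 4)) (y := (2, 4)) (z := (1, 0)) (w := (2, 1)) (by decide) (by decide) (by decide)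
    (by decide)
  simp only [Fin.sum_univ_four] at h
  simp only [show co (2, 4) (2, 4) (1, 0) (2, 1) 0 = -840 by decide +kernel,
    show co (2, 4) (2, 4) (1, 0) (2, 1) 1 = 0 by decide +kernel,
    show co (2, 4) (2, 4) (1, 0) (2, 1) 2 = 0 by decide +kernel,
    show co (2, 4) (2, 4) (1, 0) (2, 1) 3 = 0 by decide +kernel,
    show co (2, 4) (1, 0) (2, 4) (2, 1) 0 = 60 by decide +kernel,
    show co (2, 4) (1, 0) (2, 4) (2, 1) 1 = 168 by decide +kernel,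
    show co (2, 4) (1, 0) (2, 4) (2, 1) 2 = 420 by decide +kernel,
    show co (2, 4) (1, 0) (2, 4) (2, 1) 3 = 420 by decide +kernel,
    show co (2, 4) (2, 1) (2, 4) (1, 0) 0 = 60 by decide +kernel,
    show co (2, 4) (2, 1) (2, 4) (1, 0) 1 = 168 by decide +kernel,
    show co (2, 4) (2, 1) (2, 4) (1, 0) 2 = 420 by decide +kernel,
    show co (2, 4) (2, 1) (2, 4) (1, 0) 3 = 420 by decide +kernel] at h
  rw [show tI (2, 4) (2, 4) * tI (1, 0) (2, 1) + tI (2, 4) (1, 0) * tI (2, 4) (2, 1) + tI (2, 4) (2, 1) * tI (2, 4) (1, 0) = 0 by decide +kernel] at h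
  simp only [show kS κ 1 2 0 = κ 0 1 2 from rfl, show kS κ 1 2 1 = κ 1 1 2 from rfl, show kS κ 1 2 2 = κ 1 2 2 from rfl, show kS κ 1 2 3 = κ 1 2 3 from rfl, show kS κ 2 1 0 = κ 0 1 2 from rfl, show kS κ 2 1 1 = κ 1 1 2 from rfl, show kS κ 2 1 2 = κ 1 2 2 from rfl, show kS κ 2 1 3 = κ 1 2 3 from rfl, show kS κ 2 2 0 = κ 0 2 2 from rfl, show kS κ 2 2 1 = κ 1 2 2 from rfl, show kS κ 2 2 2 = κ 2 2 2 from rfl, show kS κ 2 2 3 = κ 2 2 3 from rfl,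
    D.1, D.2.1, D.2.2.1, D.2.2.2] at h
  push_cast at h
  have hg : (120 : k) ≠ 0 := by
    have := nz_of [2, 2, 2, 3, 5] hp (by decide) 
    simpa using this
  apply mul_left_cancel₀ hg
  linear_combination h

/-- `m4 n4 b-6 b-2` -/
theorem q7 (H : Alpha e κ) (D : Dead κ) (h2 : (2 : k) ≠ 0) (h3 : (3 : k) ≠ 0) (hp : ∀ n : ℕ, 0 < n → n ≤ 8 → (n : k) ≠ 0) :
    (70) * (κ 0 1 1 * κ 0 2 3) + (-25) * (κ 0 1 2 * κ 0 1 3) + (56) * (κ 1 1 2 * κ 1 1 3) = (0 : k) := by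
  have h := H.e4int h2 h3 hp (x := (2, 4)) (y := (3, 4)) (z := (1, 0)) (w := (1, 2)) (by decide) (by decide) (by decide)
    (by decide)
  simp only [Fin.sum_univ_four] at h
  simp only [show co (2, 4) (3, 4) (1, 0) (1, 2) 0 = 840 by decide +kernel,
    show co (2, 4) (3, 4) (1, 0) (1, 2) 1 = 0 by decide +kernel,
    show co (2, 4) (3, 4) (1, 0) (1, 2) 2 = 0 by decide +kernel,
    show co (2, 4) (3, 4) (1, 0) (1, 2) 3 = 0 by decide +kernel,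
    show co (2, 4) (1, 0) (3, 4) (1, 2) 0 = -150 by decide +kernel,
    show co (2, 4) (1, 0) (3, 4) (1, 2) 1 = 336 by decide +kernel,
    show co (2, 4) (1, 0) (3, 4) (1, 2) 2 = 630 by decide +kernel,
    show co (2, 4) (1, 0) (3, 4) (1, 2) 3 = -630 by decide +kernel,
    show co (2, 4) (1, 2) (3, 4) (1, 0) 0 = -150 by decide +kernel,
    show co (2, 4) (1, 2) (3, 4) (1, 0) 1 = 336 by decide +kernel,
    show co (2, 4) (1, 2) (3, 4) (1, 0) 2 = 630 by decide +kernel,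
    show co (2, 4) (1, 2) (3, 4) (1, 0) 3 = -630 by decide +kernel] at h
  rw [show tI (2, 4) (3, 4) * tI (1, 0) (1, 2) + tI (2, 4) (1, 0) * tI (3, 4) (1, 2) + tI (2, 4) (1, 2) * tI (3, 4) (1, 0) = 0 by decide +kernel] at h
  simp only [show kS κ 1 1 0 = κ 0 1 1 from rfl, show kS κ 1 1 1 = κ 1 1 1 from rfl, show kS κ 1 1 2 = κ 1 1 2 from rfl, show kS κ 1 1 3 = κ 1 1 3 from rfl, show kS κ 2 1 0 = κ 0 1 2 from rfl, show kS κ 2 1 1 = κ 1 1 2 from rfl, show kS κ 2 1 2 = κ 1 2 2 from rfl, show kS κ 2 1 3 = κ 1 2 3 from rfl, show kS κ 2 3 0 = κ 0 2 3 from rfl, show kS κ 2 3 1 = κ 1 2 3 from rfl, show kS κ 2 3 2 = κ 2 2 3 from rfl, show kS κ 2 3 3 = κ 2 3 3 from rfl, show kS κ 3 1 0 = κ 0 1 3 from rfl, show kS κ 3 1 1 = κ 1 1 3 from rfl, show kS κ 3 1 2 = κ 1 2 3 from rfl, show kS κ 3 1 3 = κ 1 3 3 from rfl,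
    D.1, D.2.1, D.2.2.1, D.2.2.2] at h
  push_cast at h
  have hg : (12 : k) ≠ 0 := by
    have := nz_of [2, 2, 3] hp (by decide) 
    simpa using this
  apply mul_left_cancel₀ hg
  linear_combination h

/-- `b6 n4 a-8 b-2` -/
theorem q8 (H : Alpha e κ) (D : Dead κ) (h2 : (2 : k) ≠ 0) (h3 : (3 : k) ≠ 0) (hp : ∀ n : ℕ, 0 < n → n ≤ 8 → (n : k) ≠ 0) :
    (56) * (κ 0 1 1 * κ 1 1 3) + (105) * (κ 0 1 2 * κ 1 2 3) + (30) * (κ 0 0 3 * κ 0 1 1) + (140) * (κ 0 2 3 * κ 1 1 2) + (140) * (κ 0 3 3 * κ 1 1 3) = (0 : k) := by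
  have h := H.e4int h2 h3 hp (x := (1, 6)) (y := (3, 4)) (z := (0, 0)) (w := (1, 2)) (by decide) (by decide) (by decide)
    (by decide)
  simp only [Fin.sum_univ_four] at h
  simp only [show co (1, 6) (3, 4) (0, 0) (1, 2) 0 = 0 by decide +kernel,
    show co (1, 6) (3, 4) (0, 0) (1, 2) 1 = 0 by decide +kernel,
    show co (1, 6) (3, 4) (0, 0) (1, 2) 2 = 0 by decide +kernel,
    show co (1, 6) (3, 4) (0, 0) (1, 2) 3 = 0 by decide +kernel,
    show co (1, 6) (0, 0) (3, 4) (1, 2) 0 = 150 by decide +kernel,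
    show co (1, 6) (0, 0) (3, 4) (1, 2) 1 = 336 by decide +kernel,
    show co (1, 6) (0, 0) (3, 4) (1, 2) 2 = 630 by decide +kernel,
    show co (1, 6) (0, 0) (3, 4) (1, 2) 3 = -630 by decide +kernel,
    show co (1, 6) (1, 2) (3, 4) (0, 0) 0 = 180 by decide +kernel,
    show co (1, 6) (1, 2) (3, 4) (0, 0) 1 = -420 by decide +kernel,
    show co (1, 6) (1, 2) (3, 4) (0, 0) 2 = 840 by decide +kernel,
    show co (1, 6) (1, 2) (3, 4) (0, 0) 3 = 840 by decide +kernel] at h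
  rw [show tI (1, 6) (3, 4) * tI (0, 0) (1, 2) + tI (1, 6) (0, 0) * tI (3, 4) (1, 2) + tI (1, 6) (1, 2) * tI (3, 4) (0, 0) = 0 by decide +kernel] at h
  simp only [show kS κ 0 1 0 = κ 0 0 1 from rfl, show kS κ 0 1 1 = κ 0 1 1 from rfl, show kS κ 0 1 2 = κ 0 1 2 from rfl, show kS κ 0 1 3 = κ 0 1 3 from rfl, show kS κ 1 0 0 = κ 0 0 1 from rfl, show kS κ 1 0 1 = κ 0 1 1 from rfl, show kS κ 1 0 2 = κ 0 1 2 from rfl, show kS κ 1 0 3 = κ 0 1 3 from rfl, show kS κ 1 1 0 = κ 0 1 1 from rfl, show kS κ 1 1 1 = κ 1 1 1 from rfl, show kS κ 1 1 2 = κ 1 1 2 from rfl, show kS κ 1 1 3 = κ 1 1 3 from rfl, show kS κ 1 3 0 = κ 0 1 3 from rfl, show kS κ 1 3 1 = κ 1 1 3 from rfl, show kS κ 1 3 2 = κ 1 2 3 from rfl, show kS κ 1 3 3 = κ 1 3 3 from rfl, show kS κ 3 0 0 = κ 0 0 3 from rfl, show kS κ 3 0 1 = κ 0 1 3 from rfl, show kS κ 3 0 2 = κ 0 2 3 from rfl, show kS κ 3 0 3 = κ 0 3 3 from rfl, show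 kS κ 3 1 0 = κ 0 1 3 from rfl, show kS κ 3 1 1 = κ 1 1 3 from rfl, show kS κ 3 1 2 = κ 1 2 3 from rfl, show kS κ 3 1 3 = κ 1 3 3 from rfl,
    D.1, D.2.1, D.2.2.1, D.2.2.2] at h
  push_cast at h
  have hg : (6 : k) ≠ 0 := by
    have := nz_of [2, 3] hp (by decide) 
    simpa using this
  apply mul_left_cancel₀ hg
  linear_combination h

/-- `m4 n4 b-6 n-2` -/
theorem q9 (H : Alpha e κ) (D : Dead κ) (h2 : (2 : k) ≠ 0) (h3 : (3 : k) ≠ 0) (hp : ∀ n : ℕ, 0 < n → n ≤ 8 → (n : k) ≠ 0) :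
    (-65) * (κ 0 1 3 * κ 0 2 3) + (5) * (κ 0 1 2 * κ 0 3 3) + (35) * (κ 1 2 3 * κ 3 3 3) + (14) * (κ 1 1 3 * κ 1 2 3) + (-35) * (κ 1 2 3 * κ 2 2 3) = (0 : k) := by
  have h := H.e4int h2 h3 hp (x := (2, 4)) (y := (3, 4)) (z := (1, 0)) (w := (3, 1)) (by decide) (by decide) (by decide)
    (by decide)
  simp only [Fin.sum_univ_four] at h
  simp only [show co (2, 4) (3, 4) (1, 0) (3, 1) 0 = -840 by decide +kernel,
    show co (2, 4) (3, 4) (1, 0) (3, 1) 1 = 0 by decide +kernel,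
    show co (2, 4) (3, 4) (1, 0) (3, 1) 2 = 0 by decide +kernel,
    show co (2, 4) (3, 4) (1, 0) (3, 1) 3 = 0 by decide +kernel,
    show co (2, 4) (1, 0) (3, 4) (3, 1) 0 = 60 by decide +kernel,
    show co (2, 4) (1, 0) (3, 4) (3, 1) 1 = 168 by decide +kernel,
    show co (2, 4) (1, 0) (3, 4) (3, 1) 2 = 420 by decide +kernel,
    show co (2, 4) (1, 0) (3, 4) (3, 1) 3 = 420 by decide +kernel,
    show co (2, 4) (3, 1) (3, 4) (1, 0) 0 = 60 by decide +kernel,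
    show co (2, 4) (3, 1) (3, 4) (1, 0) 1 = 168 by decide +kernel,
    show co (2, 4) (3, 1) (3, 4) (1, 0) 2 = -420 by decide +kernel,
    show co (2, 4) (3, 1) (3, 4) (1, 0) 3 = 420 by decide +kernel] at h
  rw [show tI (2, 4) (3, 4) * tI (1, 0) (3, 1) + tI (2, 4) (1, 0) * tI (3, 4) (3, 1) + tI (2, 4) (3, 1) * tI (3, 4) (1, 0) = 0 by decide +kernel] at h
  simp only [show kS κ 1 3 0 = κ 0 1 3 from rfl, show kS κ 1 3 1 = κ 1 1 3 from rfl, show kS κ 1 3 2 = κ 1 2 3 from rfl, show kS κ 1 3 3 = κ 1 3 3 from rfl, show kS κ 2 1 0 = κ 0 1 2 from rfl, show kS κ 2 1 1 = κ 1 1 2 from rfl, show kS κ 2 1 2 = κ 1 2 2 from rfl, show kS κ 2 1 3 = κ 1 2 3 from rfl, show kS κ 2 3 0 = κ 0 2 3 from rfl, show kS κ 2 3 1 = κ 1 2 3 from rfl, show kS κ 2 3 2 = κ 2 2 3 from rfl, show kS κ 2 3 3 = κ 2 3 3 from rfl, show kS κ 3 1 0 = κ 0 1 3 from rfl, show kS κ 3 1 1 = κ 1 1 3 from rfl, show kS κ 3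 1 2 = κ 1 2 3 from rfl, show kS κ 3 1 3 = κ 1 3 3 from rfl, show kS κ 3 3 0 = κ 0 3 3 from rfl, show kS κ 3 3 1 = κ 1 3 3 from rfl, show kS κ 3 3 2 = κ 2 3 3 from rfl, show kS κ 3 3 3 = κ 3 3 3 from rfl,
    D.1, D.2.1, D.2.2.1, D.2.2.2] at h
  push_cast at h
  have hg : (12 : k) ≠ 0 := by
    have := nz_of [2, 2, 3] hp (by decide) 
    simpa using this
  apply mul_left_cancel₀ hg
  linear_combination h

/-- `m4 m4 b-6 b-2` -/
theorem q10 (H : Alpha e κ) (D : Dead κ) (h2 : (2 : k) ≠ 0) (h3 : (3 : k) ≠ 0) (hp : ∀ n : ℕ, 0 < n → n ≤ 8 → (n : k) ≠ 0) :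
    (70) * (κ 0 1 1 * κ 0 2 2) + (-25) * (κ 0 1 2 * κ 0 1 2) + (56) * (κ 1 1 2 * κ 1 1 2) + (-105) * (κ 1 2 3 * κ 1 2 3) = (0 : k) := by
  have h := H.e4int h2 h3 hp (x := (2, 4)) (y := (2, 4)) (z := (1, 0)) (w := (1, 2)) (by decide) (by decide) (by decide)
    (by decide)
  simp only [Fin.sum_univ_four] at h
  simp only [show co (2, 4) (2, 4) (1, 0) (1, 2) 0 = 840 by decide +kernel,
    show co (2, 4) (2, 4) (1, 0) (1, 2) 1 = 0 by decide +kernel,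
    show co (2, 4) (2, 4) (1, 0) (1, 2) 2 = 0 by decide +kernel,
    show co (2, 4) (2, 4) (1, 0) (1, 2) 3 = 0 by decide +kernel,
    show co (2, 4) (1, 0) (2, 4) (1, 2) 0 = -150 by decide +kernel,
    show co (2, 4) (1, 0) (2, 4) (1, 2) 1 = 336 by decide +kernel,
    show co (2, 4) (1, 0) (2, 4) (1, 2) 2 = -630 by decide +kernel,
    show co (2, 4) (1, 0) (2, 4) (1, 2) 3 = -630 by decide +kernel,
    show co (2, 4) (1, 2) (2, 4) (1, 0) 0 = -150 by decide +kernel,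
    show co (2, 4) (1, 2) (2, 4) (1, 0) 1 = 336 by decide +kernel,
    show co (2, 4) (1, 2) (2, 4) (1, 0) 2 = -630 by decide +kernel,
    show co (2, 4) (1, 2) (2, 4) (1, 0) 3 = -630 by decide +kernel] at h
  rw [show tI (2, 4) (2, 4) * tI (1, 0) (1, 2) + tI (2, 4) (1, 0) * tI (2, 4) (1, 2) + tI (2, 4) (1, 2) * tI (2, 4) (1, 0) = 0 by decide +kernel] at h
  simp only [show kS κ 1 1 0 = κ 0 1 1 from rfl, show kS κ 1 1 1 = κ 1 1 1 from rfl, show kS κ 1 1 2 = κ 1 1 2 from rfl, show kS κ 1 1 3 = κ 1 1 3 from rfl, show kS κ 2 1 0 = κ 0 1 2 from rfl, show kS κ 2 1 1 = κ 1 1 2 from rfl, show kS κ 2 1 2 = κ 1 2 2 from rfl, show kS κ 2 1 3 = κ 1 2 3 from rfl, show kS κ 2 2 0 = κ 0 2 2 from rfl, show kS κ 2 2 1 = κ 1 2 2 from rfl, show kS κ 2 2 2 = κ 2 2 2 from rfl, show kS κ 2 2 3 = κ 2 2 3 from rfl,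
    D.1, D.2.1, D.2.2.1, D.2.2.2] at h
  push_cast at h
  have hg : (12 : k) ≠ 0 := by
    have := nz_of [2, 2, 3] hp (by decide) 
    simpa using this
  apply mul_left_cancel₀ hg
  linear_combination h

/-- `n4 n4 b-6 b-2` -/
theorem q10n (H : Alpha e κ) (D : Dead κ) (h2 : (2 : k) ≠ 0) (h3 : (3 : k) ≠ 0) (hp : ∀ n : ℕ, 0 < n → n ≤ 8 → (n : k) ≠ 0) :
    (70) * (κ 0 1 1 * κ 0 3 3) + (-25) * (κ 0 1 3 * κ 0 1 3) + (56) * (κ 1 1 3 * κ 1 1 3) + (-105) * (κ 1 2 3 * κ 1 2 3) = (0 : k) := by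
  have h := H.e4int h2 h3 hp (x := (3, 4)) (y := (3, 4)) (z := (1, 0)) (w := (1, 2)) (by decide) (by decide) (by decide)
    (by decide)
  simp only [Fin.sum_univ_four] at h
  simp only [show co (3, 4) (3, 4) (1, 0) (1, 2) 0 = 840 by decide +kernel,
    show co (3, 4) (3, 4) (1, 0) (1, 2) 1 = 0 by decide +kernel,
    show co (3, 4) (3, 4) (1, 0) (1, 2) 2 = 0 by decide +kernel,
    show co (3, 4) (3, 4) (1, 0) (1, 2) 3 = 0 by decide +kernel,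
    show co (3, 4) (1, 0) (3, 4) (1, 2) 0 = -150 by decide +kernel,
    show co (3, 4) (1, 0) (3, 4) (1, 2) 1 = 336 by decide +kernel,
    show co (3, 4) (1, 0) (3, 4) (1, 2) 2 = -630 by decide +kernel,
    show co (3, 4) (1, 0) (3, 4) (1, 2) 3 = -630 by decide +kernel,
    show co (3, 4) (1, 2) (3, 4) (1, 0) 0 = -150 by decide +kernel,
    show co (3, 4) (1, 2) (3, 4) (1, 0) 1 = 336 by decide +kernel,
    show co (3, 4) (1, 2) (3, 4) (1, 0) 2 = -630 by decide +kernel,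
    show co (3, 4) (1, 2) (3, 4) (1, 0) 3 = -630 by decide +kernel] at h
  rw [show tI (3, 4) (3, 4) * tI (1, 0) (1, 2) + tI (3, 4) (1, 0) * tI (3, 4) (1, 2) + tI (3, 4) (1, 2) * tI (3, 4) (1, 0) = 0 by decide +kernel] at h
  simp only [show kS κ 1 1 0 = κ 0 1 1 from rfl, show kS κ 1 1 1 = κ 1 1 1 from rfl, show kS κ 1 1 2 = κ 1 1 2 from rfl, show kS κ 1 1 3 = κ 1 1 3 from rfl, show kS κ 3 1 0 = κ 0 1 3 from rfl, show kS κ 3 1 1 = κ 1 1 3 from rfl, show kS κ 3 1 2 = κ 1 2 3 from rfl, show kS κ 3 1 3 = κ 1 3 3 from rfl, show kS κ 3 3 0 = κ 0 3 3 from rfl, show kS κ 3 3 1 = κ 1 3 3 from rfl, show kS κ 3 3 2 = κ 2 3 3 from rfl, show kS κ 3 3 3 = κ 3 3 3 from rfl,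
    D.1, D.2.1, D.2.2.1, D.2.2.2] at h
  push_cast at h
  have hg : (12 : k) ≠ 0 := by
    have := nz_of [2, 2, 3] hp (by decide) 
    simpa using this
  apply mul_left_cancel₀ hg
  linear_combination h

/-- `a8 n4 a-8 b-4` -/
theorem q11 (H : Alpha e κ) (D : Dead κ) (h2 : (2 : k) ≠ 0) (h3 : (3 : k) ≠ 0) (hp : ∀ n : ℕ, 0 < n → n ≤ 8 → (n : k) ≠ 0) :
    (-3) * (κ 0 0 0 * κ 0 1 3) + (21) * (κ 0 0 2 * κ 1 2 3) + (-14) * (κ 0 1 1 * κ 0 1 3) + (42) * (κ 0 1 2 * κ 0 2 3) + (42) * (κ 0 1 3 * κ 0 3 3) = (0 : k) := by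
  have h := H.e4int h2 h3 hp (x := (0, 8)) (y := (3, 4)) (z := (0, 0)) (w := (1, 1)) (by decide) (by decide) (by decide)
    (by decide)
  simp only [Fin.sum_univ_four] at h
  simp only [show co (0, 8) (3, 4) (0, 0) (1, 1) 0 = 0 by decide +kernel,
    show co (0, 8) (3, 4) (0, 0) (1, 1) 1 = 0 by decide +kernel,
    show co (0, 8) (3, 4) (0, 0) (1, 1) 2 = 0 by decide +kernel,
    show co (0, 8) (3, 4) (0, 0) (1, 1) 3 = 0 by decide +kernel,
    show co (0, 8) (0, 0) (3, 4) (1, 1) 0 = -60 by decide +kernel,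
    show co (0, 8) (0, 0) (3, 4) (1, 1) 1 = -168 by decide +kernel,
    show co (0, 8) (0, 0) (3, 4) (1, 1) 2 = 420 by decide +kernel,
    show co (0, 8) (0, 0) (3, 4) (1, 1) 3 = -420 by decide +kernel,
    show co (0, 8) (1, 1) (3, 4) (0, 0) 0 = -90 by decide +kernel,
    show co (0, 8) (1, 1) (3, 4) (0, 0) 1 = -280 by decide +kernel,
    show co (0, 8) (1, 1) (3, 4) (0, 0) 2 = 840 by decide +kernel,
    show co (0, 8) (1, 1) (3, 4) (0, 0) 3 = 840 by decide +kernel] at h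
  rw [show tI (0, 8) (3, 4) * tI (0, 0) (1, 1) + tI (0, 8) (0, 0) * tI (3, 4) (1, 1) + tI (0, 8) (1, 1) * tI (3, 4) (0, 0) = 0 by decide +kernel] at h
  simp only [show kS κ 0 0 0 = κ 0 0 0 from rfl, show kS κ 0 0 1 = κ 0 0 1 from rfl, show kS κ 0 0 2 = κ 0 0 2 from rfl, show kS κ 0 0 3 = κ 0 0 3 from rfl, show kS κ 0 1 0 = κ 0 0 1 from rfl, show kS κ 0 1 1 = κ 0 1 1 from rfl, show kS κ 0 1 2 = κ 0 1 2 from rfl, show kS κ 0 1 3 = κ 0 1 3 from rfl, show kS κ 0 3 0 = κ 0 0 3 from rfl, show kS κ 0 3 1 = κ 0 1 3 from rfl, show kS κ 0 3 2 = κ 0 2 3 from rfl, show kS κ 0 3 3 = κ 0 3 3 from rfl, show kS κ 3 0 0 = κ 0 0 3 from rfl, show kS κ 3 0 1 = κ 0 1 3 from rfl, show kS κ 3 0 2 = κ 0 2 3 from rfl, show kS κ 3 0 3 = κ 0 3 3 from rfl, show kS κ 3 1 0 = κ 0 1 3 from rfl, show kS κ 3 1 1 = κ 1 1 3 from rfl, show kS κ 3 1 2 = κ 1 2 3 from rfl, show kS κ 3 1 3 = κ 1 3 3 from rfl,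
    D.1, D.2.1, D.2.2.1, D.2.2.2] at h
  push_cast at h
  have hg : (20 : k) ≠ 0 := by
    have := nz_of [2, 2, 5] hp (by decide) 
    simpa using this
  apply mul_left_cancel₀ hg
  linear_combination h

/-- `b6 m4 a-8 b-2` -/
theorem q12 (H : Alpha e κ) (D : Dead κ) (h2 : (2 : k) ≠ 0) (h3 : (3 : k) ≠ 0) (hp : ∀ n : ℕ, 0 < n → n ≤ 8 → (n : k) ≠ 0) :
    (56) * (κ 0 1 1 * κ 1 1 2) + (-105) * (κ 0 1 3 * κ 1 2 3) + (30) * (κ 0 0 2 * κ 0 1 1) + (140) * (κ 0 2 2 * κ 1 1 2) + (140) * (κ 0 2 3 * κ 1 1 3) = (0 : k) := by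
  have h := H.e4int h2 h3 hp (x := (1, 6)) (y := (2, 4)) (z := (0, 0)) (w := (1, 2)) (by decide) (by decide) (by decide)
    (by decide)
  simp only [Fin.sum_univ_four] at h
  simp only [show co (1, 6) (2, 4) (0, 0) (1, 2) 0 = 0 by decide +kernel,
    show co (1, 6) (2, 4) (0, 0) (1, 2) 1 = 0 by decide +kernel,
    show co (1, 6) (2, 4) (0, 0) (1, 2) 2 = 0 by decide +kernel,
    show co (1, 6) (2, 4) (0, 0) (1, 2) 3 = 0 by decide +kernel,
    show co (1, 6) (0, 0) (2, 4) (1, 2) 0 = 150 by decide +kernel,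
    show co (1, 6) (0, 0) (2, 4) (1, 2) 1 = 336 by decide +kernel,
    show co (1, 6) (0, 0) (2, 4) (1, 2) 2 = -630 by decide +kernel,
    show co (1, 6) (0, 0) (2, 4) (1, 2) 3 = -630 by decide +kernel,
    show co (1, 6) (1, 2) (2, 4) (0, 0) 0 = 180 by decide +kernel,
    show co (1, 6) (1, 2) (2, 4) (0, 0) 1 = -420 by decide +kernel,
    show co (1, 6) (1, 2) (2, 4) (0, 0) 2 = 840 by decide +kernel,
    show co (1, 6) (1, 2) (2, 4) (0, 0) 3 = 840 by decide +kernel] at h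
  rw [show tI (1, 6) (2, 4) * tI (0, 0) (1, 2) + tI (1, 6) (0, 0) * tI (2, 4) (1, 2) + tI (1, 6) (1, 2) * tI (2, 4) (0, 0) = 0 by decide +kernel] at h
  simp only [show kS κ 0 1 0 = κ 0 0 1 from rfl, show kS κ 0 1 1 = κ 0 1 1 from rfl, show kS κ 0 1 2 = κ 0 1 2 from rfl, show kS κ 0 1 3 = κ 0 1 3 from rfl, show kS κ 1 0 0 = κ 0 0 1 from rfl, show kS κ 1 0 1 = κ 0 1 1 from rfl, show kS κ 1 0 2 = κ 0 1 2 from rfl, show kS κ 1 0 3 = κ 0 1 3 from rfl, show kS κ 1 1 0 = κ 0 1 1 from rfl, show kS κ 1 1 1 = κ 1 1 1 from rfl, show kS κ 1 1 2 = κ 1 1 2 from rfl, show kS κ 1 1 3 = κ 1 1 3 from rfl, show kS κ 1 2 0 = κ 0 1 2 from rfl, show kS κ 1 2 1 = κ 1 1 2 from rfl, show kS κ 1 2 2 = κ 1 2 2 from rfl, show kS κ 1 2 3 = κ 1 2 3 from rfl, show kS κ 2 0 0 = κ 0 0 2 from rfl, show kS κ 2 0 1 = κ 0 1 2 from rfl, show kS κ 2 0 2 = κ 0 2 2 from rfl, show kS κ 2 0 3 = κ 0 2 3 from rfl, show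 kS κ 2 1 0 = κ 0 1 2 from rfl, show kS κ 2 1 1 = κ 1 1 2 from rfl, show kS κ 2 1 2 = κ 1 2 2 from rfl, show kS κ 2 1 3 = κ 1 2 3 from rfl,
    D.1, D.2.1, D.2.2.1, D.2.2.2] at h
  push_cast at h
  have hg : (6 : k) ≠ 0 := by
    have := nz_of [2, 3] hp (by decide) 
    simpa using this
  apply mul_left_cancel₀ hg
  linear_combination h

/-- `a8 b6 a-8 b-6` -/
theorem q13 (H : Alpha e κ) (D : Dead κ) (h2 : (2 : k) ≠ 0) (h3 : (3 : k) ≠ 0) (hp : ∀ n : ℕ, 0 < n → n ≤ 8 → (n : k) ≠ 0) :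
    (6) * (κ 0 0 0 * κ 0 1 1) + (70) * (κ 0 0 2 * κ 1 1 2) + (70) * (κ 0 0 3 * κ 1 1 3) + (28) * (κ 0 1 1 * κ 0 1 1) + (105) * (κ 0 1 2 * κ 0 1 2) + (105) * (κ 0 1 3 * κ 0 1 3) = (280 : k) := by
  have h := H.e4int h2 h3 hp (x := (0, 8)) (y := (1, 6)) (z := (0, 0)) (w := (1, 0)) (by decide) (by decide) (by decide)
    (by decide)
  simp only [Fin.sum_univ_four] at h
  simp only [show co (0, 8) (1, 6) (0, 0) (1, 0) 0 = 0 by decide +kernel,
    show co (0, 8) (1, 6) (0, 0) (1, 0) 1 = 0 by decide +kernel,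
    show co (0, 8) (1, 6) (0, 0) (1, 0) 2 = 0 by decide +kernel,
    show co (0, 8) (1, 6) (0, 0) (1, 0) 3 = 0 by decide +kernel,
    show co (0, 8) (0, 0) (1, 6) (1, 0) 0 = 12 by decide +kernel,
    show co (0, 8) (0, 0) (1, 6) (1, 0) 1 = -42 by decide +kernel,
    show co (0, 8) (0, 0) (1, 6) (1, 0) 2 = 140 by decide +kernel,
    show co (0, 8) (0, 0) (1, 6) (1, 0) 3 = 140 by decide +kernel,
    show co (0, 8) (1, 0) (1, 6) (0, 0) 0 = 15 by decide +kernel,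
    show co (0, 8) (1, 0) (1, 6) (0, 0) 1 = 56 by decide +kernel,
    show co (0, 8) (1, 0) (1, 6) (0, 0) 2 = 210 by decide +kernel,
    show co (0, 8) (1, 0) (1, 6) (0, 0) 3 = 210 by decide +kernel] at h
  rw [show tI (0, 8) (1, 6) * tI (0, 0) (1, 0) + tI (0, 8) (0, 0) * tI (1, 6) (1, 0) + tI (0, 8) (1, 0) * tI (1, 6) (0, 0) = 1 by decide +kernel] at h
  simp only [show kS κ 0 0 0 = κ 0 0 0 from rfl, show kS κ 0 0 1 = κ 0 0 1 from rfl, show kS κ 0 0 2 = κ 0 0 2 from rfl, show kS κ 0 0 3 = κ 0 0 3 from rfl, show kS κ 0 1 0 = κ 0 0 1 from rfl, show kS κ 0 1 1 = κ 0 1 1 from rfl, show kS κ 0 1 2 = κ 0 1 2 from rfl, show kS κ 0 1 3 = κ 0 1 3 from rfl, show kS κ 1 0 0 = κ 0 0 1 from rfl, show kS κ 1 0 1 = κ 0 1 1 from rfl, show kS κ 1 0 2 = κ 0 1 2 from rfl, show kS κ 1 0 3 = κ 0 1 3 from rfl, show kS κ 1 1 0 = κ 0 1 1 from rfl, show kS κ 1 1 1 = κ 1 1 1 from rfl, show kS κ 1 1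 2 = κ 1 1 2 from rfl, show kS κ 1 1 3 = κ 1 1 3 from rfl,
    D.1, D.2.1, D.2.2.1, D.2.2.2] at h
  push_cast at h
  have hg : (2 : k) ≠ 0 := by
    have := nz_of [2] hp (by decide) 
    simpa using this
  apply mul_left_cancel₀ hg
  linear_combination h

section concl

variable (H : Alpha e κ) (h2 : (2 : k) ≠ 0) (h3 : (3 : k) ≠ 0) (hp : ∀ n : ℕ, 0 < n → n ≤ 8 → (n : k) ≠ 0)
include H h2 h3 hp

theorem c0 : κ 0 1 1 ≠ 0 := by
  intro h0
  have D := H.dead h2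
  have h5 : (5 : k) ≠ 0 := by exact_mod_cast hp 5 (by norm_num) (by norm_num)
  have h7 : (7 : k) ≠ 0 := by exact_mod_cast hp 7 (by norm_num) (by norm_num)
  have e2 := H.q2 D h2 h3 hp
  have e4 := H.q4 D h2 h3 hp
  have e1 := H.q1 D h2 h3 hp
  have e7 := H.q7 D h2 h3 hp
  have e10 := H.q10 D h2 h3 hp
  have e10n := H.q10n D h2 h3 hp
  rw [h0] at e2 e4 e7 e10 e10n
  have h15 : (15 : k) ≠ 0 := by
    have : (15 : k) = 3 * 5 := by norm_num
    rw [this]; exact mul_ne_zero h3 h5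
  have r1 : κ 0 1 2 * κ 0 1 2 + κ 0 1 3 * κ 0 1 3 = 0 := by
    apply mul_left_cancel₀ h15
    linear_combination -e2
  have h35 : (35 : k) ≠ 0 := by
    have : (35 : k) = 5 * 7 := by norm_num
    rw [this]; exact mul_ne_zero h5 h7
  have r2 : κ 1 1 2 * κ 1 1 2 + κ 1 1 3 * κ 1 1 3 = 4 := by
    apply mul_left_cancel₀ h35
    linear_combination e4
  have h4 : (4 : k) ≠ 0 := by
    have : (4 : k) = 2 * 2 := by norm_num
    rw [this]; exact mul_ne_zero h2 h2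
  have r3 : κ 0 1 2 = 0 := by
    have h : 4 * (κ 0 1 2 * κ 0 1 2) = 0 := by
      rw [← r2]
      linear_combination (κ 0 1 2 * κ 1 1 2 - κ 0 1 3 * κ 1 1 3) * e1 + (κ 1 1 3 * κ 1 1 3) * r1
    exact mul_self_eq_zero.1 ((mul_eq_zero.1 h).resolve_left h4)
  have r4 : κ 0 1 3 = 0 := by
    rw [r3] at r1
    exact mul_self_eq_zero.1 (by linear_combination r1)
  rw [r3] at e7 e10 
  rw [r4] at e10n
  have h56 : (56 : k) ≠ 0 := by
    have : (56 : k) = 2 * 2 * 2 * 7 := by norm_num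
    rw [this]; exact mul_ne_zero (mul_ne_zero (mul_ne_zero h2 h2) h2) h7
  have h105 : (105 : k) ≠ 0 := by
    have : (105 : k) = 3 * 5 * 7 := by norm_num
    rw [this]; exact mul_ne_zero (mul_ne_zero h3 h5) h7
  have r5 : κ 1 1 2 * κ 1 1 3 = 0 := by
    apply mul_left_cancel₀ h56
    linear_combination e7
  have r6 : κ 1 2 3 = 0 := by
    rcases mul_eq_zero.1 r5 with h | h
    · rw [h] at e10
      exact mul_self_eq_zero.1 (mul_left_cancel₀ h105 (by linear_combination -e10))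
    · rw [h] at e10n
      exact mul_self_eq_zero.1 (mul_left_cancel₀ h105 (by linear_combination -e10n))
  rw [r6] at e10 e10n
  have r7 : κ 1 1 2 = 0 := mul_self_eq_zero.1 (mul_left_cancel₀ h56 (by linear_combination e10))
  have r8 : κ 1 1 3 = 0 := mul_self_eq_zero.1 (mul_left_cancel₀ h56 (by linear_combination e10n))
  rw [r7, r8] at r2
  exact h4 (by linear_combination -r2)

/-- the vector `(κ 0 1 2, κ 0 1 3)` is not isotropic -/
theorem c1 : κ 0 1 2 * κ 0 1 2 + κ 0 1 3 * κ 0 1 3 ≠ 0 := by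
  intro h
  have e2 := H.q2 (H.dead h2) h2 h3 hp
  have h8 : (8 : k) ≠ 0 := by exact_mod_cast hp 8 (by norm_num) (by norm_num)
  refine H.c0 h2 h3 hp (mul_self_eq_zero.1 (mul_left_cancel₀ h8 ?_))
  linear_combination e2 + 15 * h

/-- **the grading** -/
theorem c2 (h0 : κ 0 1 2 = 0) : κ 0 1 3 ≠ 0 ∧ κ 1 1 3 = 0 ∧ κ 0 2 3 = 0 ∧ κ 0 0 3 = 0 ∧ κ 2 2 3 = 0 ∧ κ 3 3 3 = 0 := by
  have D := H.dead h2
  have h5 : (5 : k) ≠ 0 := by exact_mod_cast hp 5 (by norm_num) (by norm_num)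
  have h7 : (7 : k) ≠ 0 := by exact_mod_cast hp 7 (by norm_num) (by norm_num)
  have n011 := H.c0 h2 h3 hp
  have n1 := H.c1 h2 h3 hp
  have e1 := H.q1 D h2 h3 hp
  have e2 := H.q2 D h2 h3 hp
  have e3 := H.q3 D h2 h3 hp
  have e4 := H.q4 D h2 h3 hp
  have e5 := H.q5 D h2 h3 hp
  have e6 := H.q6 D h2 h3 hp
  have e7 := H.q7 D h2 h3 hp
  have e8 := H.q8 D h2 h3 hp
  have e9 := H.q9 D h2 h3 hp
  have e10 := H.q10 D h2 h3 hp
  have e10n := H.q10n D h2 h3 hp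
  have e11 := H.q11 D h2 h3 hp
  have e12 := H.q12 D h2 h3 hp
  rw [h0] at n1 e1 e2 e6 e7 e8 e9 e10 e11
  have n013 : κ 0 1 3 ≠ 0 := fun h => n1 (by rw [h]; ring)
  have z113 : κ 1 1 3 = 0 := by
    have h : κ 0 1 3 * κ 1 1 3 = 0 := by linear_combination e1
    exact (mul_eq_zero.1 h).resolve_left n013
  rw [z113] at e4 e7 e8 e9 e10n e12
  have h70 : (70 : k) ≠ 0 := by
    have : (70 : k) = 2 * 5 * 7 := by norm_num
    rw [this]; exact mul_ne_zero (mul_ne_zero h2 h5) h7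
  have z023 : κ 0 2 3 = 0 := by
    have h : 70 * (κ 0 1 1 * κ 0 2 3) = 0 := by linear_combination e7
    exact (mul_eq_zero.1 ((mul_eq_zero.1 h).resolve_left h70)).resolve_left n011
  rw [z023] at e8 e9 e11
  have h30 : (30 : k) ≠ 0 := by
    have : (30 : k) = 2 * 3 * 5 := by norm_num
    rw [this]; exact mul_ne_zero (mul_ne_zero h2 h3) h5
  have z003 : κ 0 0 3 = 0 := by
    have h : 30 * (κ 0 0 3 * κ 0 1 1) = 0 := by linear_combination e8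
    exact (mul_eq_zero.1 ((mul_eq_zero.1 h).resolve_left h30)).resolve_right n011
  rw [z003] at e3
  have n123 : κ 1 2 3 ≠ 0 := by
    intro h
    rw [h] at e5 e10 e10n e11 e12
    have h4 : (4 : k) ≠ 0 := by exact_mod_cast hp 4 (by norm_num) (by norm_num)
    have z112 : κ 1 1 2 = 0 := by
      have h' : 4 * (κ 0 1 1 * κ 1 1 2) = 0 := by linear_combination e5
      exact (mul_eq_zero.1 ((mul_eq_zero.1 h').resolve_left h4)).resolve_left n011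
    rw [z112] at e4 e10 e12
    have z002 : κ 0 0 2 = 0 := by
      have h' : 30 * (κ 0 0 2 * κ 0 1 1) = 0 := by linear_combination e12
      exact (mul_eq_zero.1 ((mul_eq_zero.1 h').resolve_left h30)).resolve_right n011
    rw [z002] at e3 e11
    -- ann = (4/21) abb
    have r1 : 21 * κ 0 3 3 = 4 * κ 0 1 1 := by
      have h' : 10 * κ 0 1 1 * (21 * κ 0 3 3) = 10 * κ 0 1 1 * (4 * κ 0 1 1) := by
        linear_combination 3 * e10n - 5 * e2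
      refine mul_left_cancel₀ (mul_ne_zero ?_ n011) h'
      have : (10 : k) = 2 * 5 := by norm_num
      rw [this]; exact mul_ne_zero h2 h5
    -- aaa = -2 abb
    have r2 : κ 0 0 0 = -2 * κ 0 1 1 := by
      have h' : 3 * κ 0 1 3 * κ 0 0 0 = 3 * κ 0 1 3 * (-2 * κ 0 1 1) := by
        linear_combination -e11 + 2 * κ 0 1 3 * r1
      exact mul_left_cancel₀ (mul_ne_zero h3 n013) h'
    rw [r2] at e3
    have h140 : (140 : k) ≠ 0 := by
      have : (140 : k) = 2 * 70 := by norm_num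
      rw [this]; exact mul_ne_zero h2 h70
    have h9 : (3 : k) * (κ 0 1 1 * κ 0 1 1) = 0 := by
      refine mul_left_cancel₀ h3 ?_
      linear_combination e3 - e4
    exact h140 (by linear_combination -e4 + h9)
  refine ⟨n013, z113, z023, z003, ?_, ?_⟩
  · have h : 7 * (κ 1 2 3 * κ 2 2 3) = 0 := by linear_combination e6
    exact (mul_eq_zero.1 ((mul_eq_zero.1 h).resolve_left h7)).resolve_left n123
  · have z223 : κ 2 2 3 = 0 := by
      have h : 7 * (κ 1 2 3 * κ 2 2 3) = 0 := by linear_combination e6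
      exact (mul_eq_zero.1 ((mul_eq_zero.1 h).resolve_left h7)).resolve_left n123
    rw [z223] at e9
    have h35 : (35 : k) ≠ 0 := by
      have : (35 : k) = 5 * 7 := by norm_num
      rw [this]; exact mul_ne_zero h5 h7
    have h : 35 * (κ 1 2 3 * κ 3 3 3) = 0 := by linear_combination e9
    exact (mul_eq_zero.1 ((mul_eq_zero.1 h).resolve_left h35)).resolve_left n123

end concl

end Cfsg.Agent.R2.H1.F4.Alpha
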