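import Cfsg.Agent.R2.F4N.Exact
import Cfsg.Agent.R2.H1.F4.Tab

/-!
# S5931: the values of invariant trilinear forms on strings (helper1)

`str_tab` : on scaled standard bases an invariant trilinear form is a multiple of `tau`.
-/

set_option autoImplicit false
set_option linter.unusedSectionVars false

namespace Cfsg.Agent.R2.H1.F4

open Matrix Cfsg.Agent.H943.SL2Rel Finset Cfsg.Agent.R2.F4N

universe u v w

theorem sum_three {k : Type u} [AddCommMonoid k] {p : ℕ} (hp : 2 ≤ p) (T : ℕ → ℕ → ℕ → k)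
    (hT : ∀ e f g, e + f + g ≠ 1 → T e f g = 0) :
    ∑ g ∈ range p, ∑ f ∈ range p, ∑ e ∈ range p, T e f g = T 1 0 0 + T 0 1 0 + T 0 0 1 := by
  have h2 : ∀ (φ : ℕ → k), (∀ n, 2 ≤ n → φ n = 0) → ∑ n ∈ range p, φ n = φ 0 + φ 1 := by
    intro φ hφ
    obtain ⟨q, rfl⟩ : ∃ q, p = 2 + q := ⟨p - 2, by omega⟩
    rw [Finset.sum_range_add, Finset.sum_range_succ, Finset.sum_range_succ, Finset.sum_range_zero, zero_add]
    rw [Finset.sum_eq_zero (s := range q) fun n _ => hφ _ (by omega), add_zero]
  rw [h2 _ fun g hg => sum_eq_zero fun f _ => sum_eq_zero fun e _ => hT _ _ _ (by omega)]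
  rw [h2 _ fun f hf => sum_eq_zero fun e _ => hT _ _ _ (by omega),
    h2 _ fun e he => hT _ _ _ (by omega), h2 _ fun e he => hT _ _ _ (by omega)]
  rw [h2 _ fun f hf => sum_eq_zero fun e _ => hT _ _ _ (by omega),
    h2 _ fun e he => hT _ _ _ (by omega), h2 _ fun e he => hT _ _ _ (by omega)]
  rw [hT 0 0 0 (by omega), hT 1 1 0 (by omega), hT 1 0 1 (by omega), hT 0 1 1 (by omega), hT 1 1 1 (by omega)]
  simp only [zero_add, add_zero]

variable {k : Type u} [Field k] {K : Type w} [Field K] [Fintype K] {W : Type v} [AddCommGroup W] [Module k W]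
variable {κ : K →+* k} {ρ : Representation k (SpecialLinearGroup (Fin 2) K) W}
variable {N : W →ₗ[k] W →ₗ[k] W →ₗ[k] k} (hN : ∀ g x y z, N (ρ g x) (ρ g y) (ρ g z) = N x y z)

include hN

/-- the first-order relation -/
theorem str_e {p s i j l : ℕ} {x y z : ℕ → W} (hx : Str κ ρ i x) (hy : Str κ ρ j y) (hz : Str κ ρ l z)
    (hi : i < p) (hj : j < p) (hl : l < p) (hp : 2 ≤ p)
    (hv : ∀ a b c, a ≤ i → b ≤ j → c ≤ l → a + b + c ≠ s → N (x a) (y b) (z c) = 0) {a b c : ℕ} (ha : a ≤ i) (hb : b ≤ j)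
    (hc : c ≤ l) :
    ((i - a : ℕ) : k) * N (x (a + 1)) (y b) (z c) + ((j - b : ℕ) : k) * N (x a) (y (b + 1)) (z c) +
      ((l - c : ℕ) : k) * N (x a) (y b) (z (c + 1)) = 0 := by
  by_cases hs : a + b + c + 1 = s
  · have h1 := hN (Cfsg.Agent.H943.SL2Rel.u 1) (x a) (y b) (z c)
    rw [hv a b c ha hb hc (by omega), hx.u' hi ha, hy.u' hj hb, hz.u' hl hc] at h1
    simp only [map_sum, LinearMap.sum_apply, map_smul, LinearMap.smul_apply, smul_eq_mul, map_one, one_pow, mul_one] at h1
    have h2 := sum_three hp (fun e f g => ((l - c).choose g : k) * (((j - b).choose f : k) *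
      (((i - a).choose e : k) * N (x (a + e)) (y (b + f)) (z (c + g))))) (by
        intro e f g hefg
        rcases le_or_gt e (i - a) with he | he
        swap
        · rw [Nat.choose_eq_zero_of_lt he]; simp
        rcases le_or_gt f (j - b) with hf | hf
        swap
        · rw [Nat.choose_eq_zero_of_lt hf]; simp
        rcases le_or_gt g (l - c) with hg | hg
        swap
        · rw [Nat.choose_eq_zero_of_lt hg]; simp
        rw [hv _ _ _ (by omega) (by omega) (by omega) (by omega)]; simp)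
    simp only [Nat.choose_one_right, Nat.choose_zero_right, Nat.cast_one, one_mul, add_zero] at h2
    rw [← h2]
    refine Eq.trans ?_ h1
    refine sum_congr rfl fun g _ => ?_
    rw [Finset.mul_sum]
    refine sum_congr rfl fun f _ => ?_
    rw [Finset.mul_sum, Finset.mul_sum]
  · have h1 : ((i - a : ℕ) : k) * N (x (a + 1)) (y b) (z c) = 0 := by
      rcases Nat.eq_or_lt_of_le ha with h | h
      · rw [h]; simp
      · rw [hv _ _ _ (by omega) hb hc (by omega), mul_zero]
    have h2 : ((j - b : ℕ) : k) * N (x a) (y (b + 1)) (z c) = 0 := by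
      rcases Nat.eq_or_lt_of_le hb with h | h
      · rw [h]; simp
      · rw [hv _ _ _ ha (by omega) hc (by omega), mul_zero]
    have h3 : ((l - c : ℕ) : k) * N (x a) (y b) (z (c + 1)) = 0 := by
      rcases Nat.eq_or_lt_of_le hc with h | h
      · rw [h]; simp
      · rw [hv _ _ _ ha hb (by omega) (by omega), mul_zero]
    rw [h1, h2, h3, add_zero, add_zero]

/-- **the values**, from the vanishing -/
theorem str_tab_of {p A B C : ℕ} {x y z : ℕ → W} (hx : Str κ ρ (A + B) x) (hy : Str κ ρ (A + C) y) (hz : Str κ ρ (B + C) z)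
    (hi : A + B < p) (hj : A + C < p) (hl : B + C < p) (hp2 : 2 ≤ p)
    (hv : ∀ a b c, a ≤ A + B → b ≤ A + C → c ≤ B + C → a + b + c ≠ A + B + C → N (x a) (y b) (z c) = 0)
    (hOK : tauOK A B C = true) (hu : tau A B C 0 (A + C) B = (-1) ^ (A + B))
    (hp : ∀ n : ℕ, 0 < n → n ≤ B ∨ n ≤ A + C → (n : k) ≠ 0) :
    ∃ c₀ : k, ∀ a b c, ((A + B).choose a : k) * (((A + C).choose b : k) * (((B + C).choose c : k) *
      N (x a) (y b) (z c))) = c₀ * (tau A B C a b c : k) := by
  have hs0 : ∀ n a : ℕ, n < a → ((n.choose a : ℕ) : k) = 0 := fun n a h => by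
    rw [Nat.choose_eq_zero_of_lt h, Nat.cast_zero]
  have hcs : ∀ n a : ℕ, a ≤ n → ((a : k) + 1) * ((n.choose (a + 1) : ℕ) : k) = ((n - a : ℕ) : k) * (n.choose a : ℕ) := by
    intro n a h
    have h1 := Nat.choose_succ_right_eq n a
    have h2 := congrArg (Nat.cast : ℕ → k) h1
    push_cast at h2
    linear_combination h2
  refine tab A B C hOK hu (fun a b c => ((A + B).choose a : k) * (((A + C).choose b : k) * (((B + C).choose c : k) *
      N (x a) (y b) (z c)))) ?_ ?_ ?_ ?_ ?_ ?_ hp
  · intro a b c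
    by_cases ha : a ≤ A + B
    · by_cases hb : b ≤ A + C
      · by_cases hc : c ≤ B + C
        · have h1 := str_e hN hx hy hz hi hj hl hp2 hv ha hb hc
          have e1 := hcs _ _ ha
          have e2 := hcs _ _ hb
          have e3 := hcs _ _ hc
          linear_combination (((A + B).choose a : k) * ((A + C).choose b : k) * ((B + C).choose c : k)) * h1 +
            (((A + C).choose b : k) * ((B + C).choose c : k) * N (x (a + 1)) (y b) (z c)) * e1 +
            (((A + B).choose a : k) * ((B + C).choose c : k) * N (x a) (y (b + 1)) (z c)) * e2 +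
            (((A + B).choose a : k) * ((A + C).choose b : k) * N (x a) (y b) (z (c + 1))) * e3
        · rw [hs0 _ _ (not_le.1 hc), hs0 (B + C) (c + 1) (by omega)]; ring
      · rw [hs0 _ _ (not_le.1 hb), hs0 (A + C) (b + 1) (by omega)]; ring
    · rw [hs0 _ _ (not_le.1 ha), hs0 (A + B) (a + 1) (by omega)]; ring
  · intro a b c h
    rw [hs0 _ _ h]; ring
  · intro a b c h
    rw [hs0 _ _ h]; ring
  · intro a b c h
    rw [hs0 _ _ h]; ring
  · intro a ha b hb c hc
    rw [Nat.choose_symm ha, Nat.choose_symm hb, Nat.choose_symm hc, mirror hN hx hy hz ha hb hc]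
    ring
  · intro a b c h
    by_cases ha : a ≤ A + B
    · by_cases hb : b ≤ A + C
      · by_cases hc : c ≤ B + C
        · rw [hv a b c ha hb hc h]; ring
        · rw [hs0 _ _ (not_le.1 hc)]; ring
      · rw [hs0 _ _ (not_le.1 hb)]; ring
    · rw [hs0 _ _ (not_le.1 ha)]; ring

/-- **the values** (`z` the longest string) -/
theorem str_tab {p A B C : ℕ} [Fact p.Prime] [CharP k p] {x y z : ℕ → W} (hx : Str κ ρ (A + B) x) (hy : Str κ ρ (A + C) y)
    (hz : Str κ ρ (B + C) z) (hpK : p ≤ Fintype.card K) (hi : A + B < p) (hj : A + C < p) (hl : B + C < p)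
    (hij : A + B + (A + C) < B + C + (Fintype.card K - 1))
    (hOK : tauOK A B C = true) (hu : tau A B C 0 (A + C) B = (-1) ^ (A + B)) :
    ∃ c₀ : k, ∀ a b c, ((A + B).choose a : k) * (((A + C).choose b : k) * (((B + C).choose c : k) *
      N (x a) (y b) (z c))) = c₀ * (tau A B C a b c : k) := by
  have hpr : p.Prime := Fact.out
  refine str_tab_of hN hx hy hz hi hj hl hpr.two_le (fun a b c ha hb hc h => ?_) hOK hu fun n h0 h1 h2 => ?_
  · exact exact hN hx hy hz hpK hi hj hl (s := A + B + C) (by omega) hij ha hb hc h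
  · have h3 := (CharP.cast_eq_zero_iff k p n).1 h2
    have h4 := Nat.le_of_dvd h0 h3
    rcases h1 with h1 | h1 <;> omega

end Cfsg.Agent.R2.H1.F4
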