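import Cfsg.Agent.R2.H1.F4.Alg4

/-!
# S5931: type alpha, the conditions on the table (helper1)
-/

set_option autoImplicit false

namespace Cfsg.Agent.R2.H1.F4

theorem sz_ok : ∀ X Y Z : Fin 4, X ≤ Y → Y ≤ Z →
    tauOK ((sz X + sz Y - sz Z) / 2) ((sz X + sz Z - sz Y) / 2) ((sz Y + sz Z - sz X) / 2) = true ∧
    tau ((sz X + sz Y - sz Z) / 2) ((sz X + sz Z - sz Y) / 2) ((sz Y + sz Z - sz X) / 2) 0
      ((sz X + sz Y - sz Z) / 2 + (sz Y + sz Z - sz X) / 2) ((sz X + sz Z - sz Y) / 2) =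
      (-1) ^ ((sz X + sz Y - sz Z) / 2 + (sz X + sz Z - sz Y) / 2) := by
  decide +kernel

end Cfsg.Agent.R2.H1.F4
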