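import Cfsg.Agent.R2.F4L.Act
import Cfsg.Agent.R2.H1.F4.Qs
import Cfsg.Agent.R2.H1.F4.StrTab
import Cfsg.Agent.R2.H1.F4.TabOK
import Cfsg.Agent.H952.F4.FixV

/-!
# S5931: type alpha, from the standard bases to the table (helper1)

`Sys κ ρ x` : four standard bases of lengths 8, 6, 4, 4 spanning the trace-zero part; `exists_alpha` : after a change of the
bases there is a table as in `Alpha`.
-/

set_option autoImplicit false
set_option linter.unusedSectionVars false

namespace Cfsg.Agent.R2.H1.F4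

open Cfsg Cfsg.Lie Module Cfsg.Agent.H952.F4 Cfsg.Agent.H952.F4.Jord
open Cfsg.Agent.ChevalleyStructure.E6Min.Tables Cfsg.Agent.ChevalleyStructure.E6Min.Basic
open Cfsg.Agent.R2.F4N (Str)
open Cfsg.Agent.R2.F4L (Act)
open Cfsg.Agent.H952.F4.FixV (W0 mem_W0 finrank_W0 trL tfL tfL_apply)
open Matrix

universe u v w

section lin

variable {k : Type u} [Field k]

/-- the trace form with a trivial argument -/
noncomputable def N1 (k : Type u) [Field k] : (I27 → k) →ₗ[k] (I27 → k) →ₗ[k] (I27 → k) →ₗ[k] k :=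
  LinearMap.mk₂ k (fun x y => tr1 y • tfL k x)
    (fun x x' y => by rw [map_add, smul_add]) (fun c x y => by rw [map_smul, smul_comm])
    (fun x y y' => by rw [tr1_add, add_smul]) (fun c x y => by rw [tr1_smul, smul_smul])

theorem N1_apply (x y z : I27 → k) : N1 k x y z = tr1 y * tf x z := rfl

/-- the cubic form -/
noncomputable def N3 (k : Type u) [Field k] : (I27 → k) →ₗ[k] (I27 → k) →ₗ[k] (I27 → k) →ₗ[k] k :=
  LinearMap.mk₂ k (fun x y => tfL k (st x y))
    (fun x x' y => by rw [st_add_left, map_add]) (fun c x y => by rw [st_smul_left, map_smul])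
    (fun x y y' => by rw [st_add_right, map_add]) (fun c x y => by rw [st_smul_right, map_smul])

theorem N3_apply (x y z : I27 → k) : N3 k x y z = tf (st x y) z := rfl

end lin

section str

variable {k : Type u} [Field k] {K : Type w} [Field K] {κ : K →+* k}
variable {ρ : Representation k (SpecialLinearGroup (Fin 2) K) (I27 → k)}

theorem N1_inv (H : Act ρ) (g : SpecialLinearGroup (Fin 2) K) (x y z : I27 → k) :
    N1 k (ρ g x) (ρ g y) (ρ g z) = N1 k x y z := by
  rw [N1_apply, N1_apply, H.tr, H.tf]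

theorem st_inv (H : Act ρ) (g : SpecialLinearGroup (Fin 2) K) (x y : I27 → k) :
    st (ρ g x) (ρ g y) = ρ g (st x y) := by
  unfold st
  rw [map_add, map_smul, H.cr, H.tf, H.u0]

theorem N3_inv (H : Act ρ) (g : SpecialLinearGroup (Fin 2) K) (x y z : I27 → k) :
    N3 k (ρ g x) (ρ g y) (ρ g z) = N3 k x y z := by
  rw [N3_apply, N3_apply, st_inv H, H.tf]

theorem str_u0 (H : Act ρ) : Str κ ρ 0 (fun _ => u0 k) where
  u := fun s hs t => by
    rw [H.u0, Nat.le_zero.1 hs]
    simp
  h := fun s hs a => by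
    rw [H.u0, Nat.le_zero.1 hs]
    simp
  w := fun s hs => by
    rw [H.u0, Nat.le_zero.1 hs]
    simp

variable [Fintype K] {p : ℕ} [Fact p.Prime] [CharP k p] (hpK : p ≤ Fintype.card K)

include hpK

theorem tf_str (H : Act ρ) (h3 : (3 : k) ≠ 0) {i l : ℕ} {x z : ℕ → (I27 → k)} (hx : Str κ ρ i x) (hz : Str κ ρ l z)
    (hi : i < p) (hl : l < p) {m c : ℕ} (hm : m < p) (hc : c ≤ l) :
    (i.choose m : k) * tf (x m) (z c) = (-1) ^ m * ((l - c).choose m : k) * tf (x 0) (z (c + m)) := by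
  have h1 := R2.F4N.eq_one (N1_inv H) hx (str_u0 (κ := κ) H) hz hpK hi hl hc m hm
  rw [N1_apply, N1_apply, tr1_u0] at h1
  refine mul_left_cancel₀ h3 ?_
  linear_combination h1

theorem tf_str_zero (H : Act ρ) (h3 : (3 : k) ≠ 0) {i l : ℕ} {x z : ℕ → (I27 → k)} (hx : Str κ ρ i x) (hz : Str κ ρ l z)
    (hi : i < p) (hl : l < p) {c : ℕ} (hc : c ≤ l) (h : i ≠ l ∨ c ≠ l) : tf (x 0) (z c) = 0 := by
  have hp : p.Prime := Fact.out
  rcases Nat.lt_or_ge c l with h1 | h1
  · have h2 := R2.F4N.bot_zero (N1_inv H) hx (str_u0 (κ := κ) H) hz hpK hp.pos hl hc (by omega)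
    rw [N1_apply, tr1_u0] at h2
    exact (mul_eq_zero.1 h2).resolve_left h3
  · have h1' : c = l := by omega
    subst h1'
    have h2 : i ≠ c := by rcases h with h | h <;> omega
    rcases Nat.lt_or_ge i c with h4 | h4
    · have h5 := R2.F4N.top_zero (N1_inv H) hx (str_u0 (κ := κ) H) hz hpK hi hl hc h4
      rw [N1_apply, tr1_u0] at h5
      exact (mul_eq_zero.1 h5).resolve_left h3
    · have h5 := tf_str hpK H h3 hz hx hl hi (m := c) (c := 0) (by omega) (Nat.zero_le i)
      have h6 := R2.F4N.bot_zero (N1_inv H) hz (str_u0 (κ := κ) H) hx hpK hp.pos hi (c := c) (by omega) (by omega)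
      rw [N1_apply, tr1_u0] at h6
      rw [Nat.choose_self, Nat.cast_one, one_mul, zero_add, (mul_eq_zero.1 h6).resolve_left h3, mul_zero, tf_comm] at h5
      exact h5

theorem tf_str_val (H : Act ρ) (h3 : (3 : k) ≠ 0) {i l : ℕ} {x z : ℕ → (I27 → k)} (hx : Str κ ρ i x) (hz : Str κ ρ l z)
    (hi : i < p) (hl : l < p) {a c : ℕ} (ha : a ≤ i) (hc : c ≤ l) :
    (i.choose a : k) * tf (x a) (z c) = if i = l ∧ a + c = l then (-1) ^ a * tf (x 0) (z l) else 0 := by
  rw [tf_str hpK H h3 hx hz hi hl (by omega) hc]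
  split_ifs with h
  · obtain ⟨h1, h2⟩ := h
    have e1 : l - c = a := by omega
    have e2 : c + a = l := by omega
    rw [e1, e2, Nat.choose_self, Nat.cast_one, mul_one]
  · rcases Nat.lt_or_ge (l - c) a with h1 | h1
    · rw [Nat.choose_eq_zero_of_lt h1, Nat.cast_zero, mul_zero, zero_mul]
    · rw [tf_str_zero hpK H h3 hx hz hi hl (c := c + a) (by omega) (by omega), mul_zero]

end str

/-- four standard bases spanning the trace-zero part -/
structure Sys {k : Type u} [Field k] {K : Type w} [Field K] (κ : K →+* k)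
    (ρ : Representation k (SpecialLinearGroup (Fin 2) K) (I27 → k)) (x : Fin 4 → ℕ → (I27 → k)) : Prop where
  str : ∀ X, Str κ ρ (sz X) (x X)
  tr : ∀ X, ∀ a ≤ sz X, tr1 (x X a) = 0
  span : ∀ v : I27 → k, tr1 v = 0 → v ∈ Submodule.span k {w | ∃ X a, a ≤ sz X ∧ w = x X a}

section sys

variable {k : Type u} [Field k] {K : Type w} [Field K] {κ : K →+* k}
variable {ρ : Representation k (SpecialLinearGroup (Fin 2) K) (I27 → k)} {x : Fin 4 → ℕ → (I27 → k)}

theorem str_smul {n : ℕ} {v : ℕ → (I27 → k)} (h : Str κ ρ n v) (c : k) : Str κ ρ n (fun a => c • v a) where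
  u := fun s hs t => by
    rw [map_smul, h.u s hs, Finset.smul_sum]
    refine Finset.sum_congr rfl fun j _ => ?_
    rw [smul_comm]
  h := fun s hs a => by rw [map_smul, h.h s hs, smul_comm]
  w := fun s hs => by rw [map_smul, h.w s hs, smul_comm]

theorem str_add {n : ℕ} {v v' : ℕ → (I27 → k)} (h : Str κ ρ n v) (h' : Str κ ρ n v') :
    Str κ ρ n (fun a => v a + v' a) where
  u := fun s hs t => by
    rw [map_add, h.u s hs, h'.u s hs, ← Finset.sum_add_distrib]
    refine Finset.sum_congr rfl fun j _ => ?_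
    rw [smul_add]
  h := fun s hs a => by rw [map_add, h.h s hs, h'.h s hs, smul_add]
  w := fun s hs => by rw [map_add, h.w s hs, h'.w s hs, smul_add]

theorem sz_le (X : Fin 4) : sz X ≤ 8 := by fin_cases X <;> decide

theorem sz_tri (X Y Z : Fin 4) (h : X ≤ Y) (h' : Y ≤ Z) :
    (sz X + sz Y - sz Z) / 2 + (sz X + sz Z - sz Y) / 2 = sz X ∧ (sz X + sz Y - sz Z) / 2 + (sz Y + sz Z - sz X) / 2 = sz Y ∧
      (sz X + sz Z - sz Y) / 2 + (sz Y + sz Z - sz X) / 2 = sz Z ∧ sz Z ≤ sz Y ∧ sz Y ≤ sz X ∧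
      2 * ((sz X + sz Y - sz Z) / 2 + (sz X + sz Z - sz Y) / 2 + (sz Y + sz Z - sz X) / 2) = sz X + sz Y + sz Z := by
  revert X Y Z
  decide +kernel

theorem sz_half (X Y : Fin 4) : X ≠ Y → sz X = sz Y → (X = 2 ∧ Y = 3) ∨ (X = 3 ∧ Y = 2) := by
  revert X Y
  decide

variable [Fintype K] {p : ℕ} [Fact p.Prime] [CharP k p]

/-- the table of an orthonormal system -/
theorem Sys.alpha (S : Sys κ ρ x) (H : Act ρ) (hp : 11 ≤ p) (hpK : p ≤ Fintype.card K)
    (one : ∀ X, tf (x X 0) (x X (sz X)) = 1) (orth : tf (x 2 0) (x 3 4) = 0) :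
    ∃ κ₀ : Fin 4 → Fin 4 → Fin 4 → k, Alpha (fun X a => ((sz X).choose a : k) • x X a) κ₀ := by
  have h3 : (3 : k) ≠ 0 := by
    have h1 : ((3 : ℕ) : k) ≠ 0 := by
      intro h
      rw [CharP.cast_eq_zero_iff k p] at h
      have := Nat.le_of_dvd (by norm_num) h
      omega
    exact_mod_cast h1
  have hszp : ∀ X, sz X < p := fun X => by have := sz_le X; omega
  have tri : ∀ X Y Z : Fin 4, ∃ c : k, X ≤ Y → Y ≤ Z → ∀ a b c', ((sz X).choose a : k) * (((sz Y).choose b : k) *
      (((sz Z).choose c' : k) * tf (st (x X a) (x Y b)) (x Z c'))) = c * (t3 (X, a) (Y, b) (Z, c') : k) := by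
    intro X Y Z
    by_cases hXY : X ≤ Y ∧ Y ≤ Z
    swap
    · exact ⟨0, fun h1 h2 => absurd ⟨h1, h2⟩ hXY⟩
    obtain ⟨e1, e2, e3, e4, e5, e6⟩ := sz_tri X Y Z hXY.1 hXY.2
    obtain ⟨o1, o2⟩ := sz_ok X Y Z hXY.1 hXY.2
    have l1 := sz_le X
    have l2 := sz_le Y
    have l3 := sz_le Z
    have hX := S.str X
    have hY := S.str Y
    have hZ := S.str Z
    rw [← e1] at hX
    rw [← e2] at hY
    rw [← e3] at hZ
    have hpp : p.Prime := Fact.out
    obtain ⟨c, hc⟩ := str_tab_of (p := p) (N3_inv H) hX hY hZ (by omega) (by omega) (by omega) (by omega) (fun a b c ha hb hc h => by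
      have h1 := R2.F4N.exact (N3_inv H) (S.str Y) (S.str Z) (S.str X) hpK (hszp Y) (hszp Z) (hszp X)
        (s := (sz X + sz Y - sz Z) / 2 + (sz X + sz Z - sz Y) / 2 + (sz Y + sz Z - sz X) / 2) (by omega) (by omega)
        (m := b) (b := c) (c := a) (by omega) (by omega) (by omega) (by omega)
      rw [N3_apply] at h1 ⊢
      rw [tf_st_rot (S.tr X a (by omega)) (S.tr Z c (by omega)), tf_comm, h1]) o1 o2 (fun n h0 h1 h2 => by
      have h3 := (CharP.cast_eq_zero_iff k p n).1 h2
      have h4 := Nat.le_of_dvd h0 h3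
      omega)
    refine ⟨c, fun _ _ a b c' => ?_⟩
    have h1 := hc a b c'
    rw [N3_apply] at h1
    rw [e1, e2, e3] at h1
    exact h1
  choose κ₀ hκ using tri
  refine ⟨κ₀, ⟨?_, ?_, ?_, ?_⟩⟩
  · intro X a
    rw [tr1_smul]
    rcases Nat.lt_or_ge (sz X) a with h | h
    · rw [Nat.choose_eq_zero_of_lt h, Nat.cast_zero, zero_mul]
    · rw [S.tr X a h, mul_zero]
  · rintro ⟨X, a⟩ ⟨Y, c⟩ ha hc
    simp only at ha hc ⊢
    rw [tf_smul_left, tf_smul_right]
    have h1 := tf_str_val hpK H h3 (S.str X) (S.str Y) (hszp X) (hszp Y) ha hc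
    have h2 : ((sz X).choose a : k) * (((sz Y).choose c : k) * tf (x X a) (x Y c)) =
        ((sz Y).choose c : k) * (((sz X).choose a : k) * tf (x X a) (x Y c)) := by ring
    rw [h2, h1]
    unfold tI
    simp only
    by_cases hXY : X = Y
    · subst hXY
      rw [one X]
      by_cases hac : a + c = sz X
      · rw [if_pos ⟨rfl, hac⟩, if_pos ⟨rfl, hac⟩]
        have h3 : (sz X).choose c = (sz X).choose a := by
          rw [← hac]
          exact Nat.choose_symm_of_eq_add (by omega)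
        rw [h3]
        push_cast
        ring
      · rw [if_neg (fun h => hac h.2), if_neg (fun h => hac h.2)]
        simp
    · rw [if_neg (fun h : X = Y ∧ _ => hXY h.1)]
      by_cases hs : sz X = sz Y
      · have h4 : tf (x X 0) (x Y (sz Y)) = 0 := by
          rcases sz_half X Y hXY hs with ⟨rfl, rfl⟩ | ⟨rfl, rfl⟩
          · exact orth
          · have h5 := tf_str_val hpK H h3 (S.str 2) (S.str 3) (hszp 2) (hszp 3) (a := 4) (c := 0) (by decide) (by decide)
            rw [if_pos ⟨by decide, by decide⟩] at h5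
            have h6 : (sz 2).choose 4 = 1 := by decide
            have h7 : sz 3 = 4 := by decide
            have h8 : sz 2 = 4 := by decide
            rw [h6, Nat.cast_one, one_mul, h7, orth, mul_zero] at h5
            rw [h8, tf_comm]
            exact h5
        rw [h4]
        simp
      · rw [if_neg (fun h => hs h.1)]
        simp
  · intro v hv
    have h1 := S.span v hv
    refine Submodule.span_le.2 ?_ h1
    rintro w ⟨X, a, ha, rfl⟩
    have hne : ((sz X).choose a : k) ≠ 0 := R2.F4N.choose_ne (p := p) (hszp X) ha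
    have h2 : x X a = ((sz X).choose a : k)⁻¹ • (((sz X).choose a : k) • x X a) := by
      rw [smul_smul, inv_mul_cancel₀ hne, one_smul]
    rw [h2]
    exact Submodule.smul_mem _ _ (Submodule.subset_span ⟨X, a, ha, rfl⟩)
  · rintro ⟨X, a⟩ ⟨Y, b⟩ ⟨Z, c⟩ hXY hYZ _ _ _
    simp only at hXY hYZ ⊢
    rw [st_smul_left, st_smul_right, tf_smul_left, tf_smul_left, tf_smul_right]
    rw [← hκ X Y Z hXY hYZ a b c]

end sys

end Cfsg.Agent.R2.H1.F4
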